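import Groth.Agent.OmegaDual24.AlgClosed
import Groth.Agent.Omega15.Geometry
import Groth.Agent.Omega15.Compat
import Groth.Agent.CurveRR24.BCField
import Groth.Agent.CurveRR24.GenusZero
import Groth.Agent.CurveRR24.Dual
import Groth.Agent.CurveRR24.Section
import Groth.Agent.P1SC24.Reduce
import Groth.Agent.AbVarLib.GeomIntegralSmooth

/-!
# The canonical sheaf of a smooth proper curve is its dualizing module

For a smooth proper geometrically integral curve `X` over any field: `h⁰(Ω) = g`, `h¹(Ω) = 1`,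
`deg Ω = 2g - 2`, and `Ω` is isomorphic to every dualizing module.
-/

set_option autoImplicit false
set_option linter.style.haveILetI false
set_option linter.unusedSectionVars false
set_option backward.isDefEq.respectTransparency.types false
set_option maxHeartbeats 1000000

universe u

open CategoryTheory CategoryTheory.Limits AlgebraicGeometry Opposite TopologicalSpace
open Groth.Agent.Coherent Groth.Agent.PicLib Groth.Agent.AmpleLib Groth.Agent.EulerLib Groth.Agent.CurveRR24

namespace Groth.Agent.OmegaDual24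

variable (k : Type u) [Field k] {X : Scheme.{u}} [X.Over (Spec (CommRingCat.of k))]
  [IsProper (X ↘ Spec (CommRingCat.of k))] [IsIntegral X] [Smooth (X ↘ Spec (CommRingCat.of k))]
  [GeometricallyIntegral (X ↘ Spec (CommRingCat.of k))]

/-- `h⁰(Ω) = g` and `h¹(Ω) = 1`. -/
theorem finrank_omega (hdim : topologicalKrullDim X = 1) :
    Module.finrank k (Coh.HH X (Omega.sheaf (X ↘ Spec (CommRingCat.of k))) 0) = Curv2.genus k X ∧
      Module.finrank k (Coh.HH X (Omega.sheaf (X ↘ Spec (CommRingCat.of k))) 1) = 1 := by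
  let q := X ↘ Spec (CommRingCat.of k)
  let K := AlgebraicClosure k
  let X' := pullback q (Spec.map (CommRingCat.ofHom (algebraMap k K)))
  let g : X' ⟶ X := pullback.fst _ _
  let _ : X'.Over (Spec (CommRingCat.of K)) := ⟨pullback.snd _ _⟩
  let q' := X' ↘ Spec (CommRingCat.of K)
  have hpb : IsPullback g q' q (Spec.map (CommRingCat.ofHom (algebraMap k K))) :=
    IsPullback.of_hasPullback _ _
  haveI : IsProper q' := MorphismProperty.of_isPullback hpb inferInstance
  haveI : Smooth q' := MorphismProperty.of_isPullback hpb inferInstance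
  haveI : IsIntegral X' := GeometricallyIntegral.geometrically_isIntegral (f := q)
    (Spec.map (CommRingCat.ofHom (algebraMap k K))) g q' hpb
  haveI := isNoetherian_of_proper k (X := X)
  haveI := isNoetherian_of_proper K (X := X')
  haveI : Coh.IsQCoh (Omega.sheaf q) := OmegaLib.isQCoh_of_isUniversal (OmegaLib.isUniversal_dOmega q)
  obtain ⟨c, hc, -⟩ := Omega15.existsUnique_compat g (Spec.map (CommRingCat.ofHom (algebraMap k K))) hpb.w.symm
    (OmegaLib.isUniversal_dOmega q) (OmegaSh.dOmega q')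
  haveI := Omega15.isIso_of_isPullback hpb (OmegaLib.isUniversal_dOmega q) (OmegaLib.isUniversal_dOmega q') hc
  obtain ⟨h0, h1⟩ := finrank_omega_algClosed (k := K) (X := X') ((DimLib.topologicalKrullDim_bc q K).trans hdim)
  constructor
  · rw [← finrank_HH_bc hpb (Omega.sheaf q) 0, finrank_HH_congr K (asIso c) 0, h0, genus_bc hpb]
  · rw [← finrank_HH_bc hpb (Omega.sheaf q) 1, finrank_HH_congr K (asIso c) 1, h1]

/-- `deg Ω = 2g - 2`. -/
theorem deg_omega (hdim : topologicalKrullDim X = 1) :
    Curv2.deg k X (Omega.sheaf (X ↘ Spec (CommRingCat.of k))) 1 = 2 * (Curv2.genus k X : ℤ) - 2 := by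
  haveI := isNoetherian_of_proper k (X := X)
  obtain ⟨h0, h1⟩ := finrank_omega k hdim
  have hO := CurveRR24.h0_structure_of_geomIntegral k (X := X)
  have e1 := euler_eq_h0_sub_h1 k hdim.le _ (isCoh_of_isInvertible k (isInvertible_omega (k := k) hdim)).1
  have e2 := euler_eq_h0_sub_h1 k hdim.le (Coh.structureModule X) Coherent.isQCoh_structureModule
  rw [h0, h1] at e1
  rw [hO] at e2
  simp only [Curv2.deg, Nat.cast_one, one_mul, Curv2.genus] at e1 e2 ⊢
  rw [e1, e2]
  push_cast
  ring

/-- The canonical sheaf is isomorphic to any dualizing module. -/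
theorem nonempty_iso_omega {ω : X.Modules} {t : Coh.HH X ω 1 →ₗ[k] k} (hdim : topologicalKrullDim X = 1)
    (hω : Coh.IsQCoh ω) (hrep : ∀ F : X.Modules, Coh.IsQCoh F → SerreDual.Rep t F) :
    Nonempty (Omega.sheaf (X ↘ Spec (CommRingCat.of k)) ≅ ω) := by
  haveI := isNoetherian_of_proper k (X := X)
  let Ω := Omega.sheaf (X ↘ Spec (CommRingCat.of k))
  have hΩ : PicF.IsInvertible Ω := isInvertible_omega (k := k) hdim
  have hωi := CurveRR24.isInvertible_dualizing_of_smooth hdim hω hrep
  obtain ⟨-, h1⟩ := finrank_omega k hdim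
  obtain ⟨hfin, hhom⟩ := SerreDual.finrank_hom_eq_h1 hrep (isCoh_of_isInvertible k hΩ)
  haveI := hfin
  obtain ⟨N, hN, ⟨e⟩⟩ := exists_inverse k hΩ
  obtain ⟨-, hh⟩ := SerreDual.finrank_hom_eq (k := k) ω hΩ hN e
  rw [hhom, h1] at hh
  have hL := isInvertible_tensorMod hωi hN
  have hnt : Nontrivial (Coh.HH X (CohB1.tensorMod ω N) 0) :=
    Module.nontrivial_of_finrank_pos (R := k) (by rw [hh]; exact one_pos)
  obtain ⟨-, hiso, -⟩ := deg_nonneg_of_section k hdim.le hL hnt
  obtain ⟨e'⟩ := hiso (by
    rw [deg_tensor k hdim.le hωi hN]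
    have h2 := deg_tensor k hdim.le hΩ hN
    rw [deg_congr k e, deg_structure] at h2
    have h3 := CurveRR24.deg_dualizing hrep hdim hωi
    have h4 := deg_omega k hdim
    have hO := CurveRR24.h0_structure_of_geomIntegral k (X := X)
    have e2 := euler_eq_h0_sub_h1 k hdim.le (Coh.structureModule X) Coherent.isQCoh_structureModule
    rw [hO] at e2
    simp only [Curv2.genus, Nat.cast_one] at h2 h3 h4 e2 ⊢
    linear_combination -h2 + h3 - h4 - 2 * e2)
  obtain ⟨a⟩ := exists_assocIso' ω hN hΩ
  exact ⟨(unitTensorIso Ω).symm ≪≫ AmpleLib.tensorIso e'.symm (Iso.refl Ω) ≪≫ a ≪≫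
    AmpleLib.tensorIso (Iso.refl ω) (tensorComm N Ω ≪≫ e) ≪≫ tensorComm _ _ ≪≫ unitTensorIso ω⟩

end Groth.Agent.OmegaDual24
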