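import Groth.Agent.GenSmoothLib.SmoothDim
import Groth.Agent.OmegaLib.LocFree
import Groth.Agent.OmegaLib.DOmega
import Groth.Agent.OmegaLib.Sections
import Groth.Agent.LefPen24.Weierstrass
import Groth.Agent.SerreDual.Finite
import Groth.Agent.PicLib.FiniteSetTriv

/-!
# Differentials of a smooth curve inside a line over the function field
-/

set_option autoImplicit false
set_option linter.style.haveILetI false
set_option backward.isDefEq.respectTransparency.types false
set_option maxHeartbeats 1000000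

universe u

open CategoryTheory CategoryTheory.Limits AlgebraicGeometry Opposite TopologicalSpace
open Groth.Agent.Coherent Groth.Agent.PicLib

namespace Groth.Agent.OmegaDual24

variable {k : Type u} [Field k] {X : Scheme.{u}} [X.Over (Spec (CommRingCat.of k))]
  [IsSeparated (X ↘ Spec (CommRingCat.of k))] [IsIntegral X]

/-- The differentials of a smooth curve form an invertible module. -/
theorem isInvertible_omega [Smooth (X ↘ Spec (CommRingCat.of k))] (hdim : topologicalKrullDim X = 1) :
    PicF.IsInvertible (Omega.sheaf (X ↘ Spec (CommRingCat.of k))) := by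
  intro x
  obtain ⟨U, n, hxU, ⟨e⟩, hn⟩ := OmegaLib.exists_free_rank_fibreDimAt
    (OmegaLib.isUniversal_dOmega (X ↘ Spec (CommRingCat.of k))) x
  have h1 : n = 1 := by
    rw [GenSmoothLib.fibreDimAt_toField, GenSmoothLib.localDim_eq_topologicalKrullDim (X ↘ Spec (CommRingCat.of k)),
      hdim] at hn
    exact_mod_cast hn.symm
  subst h1
  exact ⟨U, hxU, ⟨e ≪≫ freeModOneIso _⟩⟩

theorem genericPoint_mem {U : X.Opens} {x : X} (hx : x ∈ U) : genericPoint X ∈ U :=
  ((genericPoint_spec X).mem_open_set_iff U.2).2 ⟨x, trivial, hx⟩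

/-- The germ at the generic point. -/
noncomputable abbrev gη (U : X.Opens) (hU : genericPoint X ∈ U) : Γ(X, U) →+* X.functionField :=
  (X.presheaf.germ U (genericPoint X) hU).hom

/-- A derivation of an invertible module read in the function field, normalised at `t`. -/
theorem exists_genericDeriv {M : X.Modules} (hM : PicF.IsInvertible M)
    (d : OmegaSh.Der (X ↘ Spec (CommRingCat.of k)) M) {U₀ : X.Opens} (hU₀ : genericPoint X ∈ U₀)
    (t : Γ(X, U₀)) (ht : d.app U₀ t ≠ 0) :
    letI := (LefPen24.stalkConst k (genericPoint X)).toAlgebra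
    ∃ (D : Derivation k X.functionField X.functionField)
      (ι : ∀ U : X.Opens, genericPoint X ∈ U → (Γ(M, U) →+ X.functionField)),
      D (gη U₀ hU₀ t) = 1 ∧
      (∀ U hU, Function.Injective (ι U hU)) ∧
      (∀ U hU (r : Γ(X, U)) s, ι U hU (r • s) = gη U hU r * ι U hU s) ∧
      (∀ U V hU hV (h : V ≤ U) s, ι V hV (resM M h s) = ι U hU s) ∧
      ∀ U hU (b : Γ(X, U)), ι U hU (d.app U b) = D (gη U hU b) := by
  let _ := (LefPen24.stalkConst k (genericPoint X)).toAlgebra
  let η := genericPoint X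
  obtain ⟨G, hηG, g, hg⟩ := exists_isGen hM η
  let j : ∀ U : X.Opens, η ∈ U → (Γ(M, U) →+ X.functionField) := fun U hU =>
    AddMonoidHom.mk' (fun s => gη (U ⊓ G) ⟨hU, hηG⟩ (hg.coef inf_le_right (resM M inf_le_left s)))
      fun a b => by rw [map_add, hg.coef_add, map_add]
  have hj : ∀ U hU, Function.Injective (j U hU) := fun U hU => (injective_iff_map_eq_zero _).2 fun s hs => by
    have h : hg.coef inf_le_right (resM M (inf_le_left : U ⊓ G ≤ U) s) = 0 :=
      germ_injective_of_isIntegral X η (show η ∈ U ⊓ G from ⟨hU, hηG⟩) (hs.trans (map_zero _).symm)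
    refine SerreDual.eq_zero_of_resM_eq_zero hM (V := G) ⟨η, hηG⟩ s ?_
    rw [← hg.coef_spec inf_le_right (resM M (inf_le_left : U ⊓ G ≤ U) s), h, zero_smul]
  have hsmul : ∀ U hU (r : Γ(X, U)) s, j U hU (r • s) = gη U hU r * j U hU s := fun U hU r s => by
    show gη _ _ (hg.coef _ (resM M _ (r • s))) = gη U hU r * gη _ _ _
    rw [resM_smul, hg.coef_smul, map_mul]
    congr 1
    exact TopCat.Presheaf.germ_res_apply X.presheaf _ η _ r
  have hres : ∀ U V hU hV (h : V ≤ U) s, j V hV (resM M h s) = j U hU s := fun U V hU hV h s => by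
    show gη _ _ (hg.coef _ (resM M _ (resM M h s))) = gη _ _ _
    rw [resM_resM, ← resM_resM M (inf_le_left : U ⊓ G ≤ U) (inf_le_inf_right G h : V ⊓ G ≤ U ⊓ G) s, hg.coef_res]
    exact TopCat.Presheaf.germ_res_apply X.presheaf _ η _ _
  let c := j U₀ hU₀ (d.app U₀ t)
  have hc : c ≠ 0 := fun h => ht (hj U₀ hU₀ (h.trans (map_zero _).symm))
  let ι : ∀ U : X.Opens, η ∈ U → (Γ(M, U) →+ X.functionField) := fun U hU =>
    AddMonoidHom.mk' (fun s => j U hU s * c⁻¹) fun a b => by rw [map_add, add_mul]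
  have key : ∀ U V (hU : η ∈ U) (hV : η ∈ V) (a : Γ(X, U)) (b : Γ(X, V)), gη U hU a = gη V hV b →
      ι U hU (d.app U a) = ι V hV (d.app V b) := fun U V hU hV a b h => by
    obtain ⟨W, hW, iU, iV, e⟩ := X.presheaf.germ_eq η hU hV a b h
    show j U hU _ * c⁻¹ = j V hV _ * c⁻¹
    rw [← hres U W hU hW iU.le, ← hres V W hV hW iV.le]
    refine congrArg (fun z => j W hW z * c⁻¹) ?_
    exact ((OmegaLib.app_map d iU.le a).symm.trans (congrArg (d.app W) e)).trans (OmegaLib.app_map d iV.le b)
  choose V hV s hs using fun y : X.functionField => X.presheaf.exists_germ_eq y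
  let D₀ : X.functionField → X.functionField := fun y => ι (V y) (hV y) (d.app (V y) (s y))
  have hD : ∀ U hU (b : Γ(X, U)), D₀ (gη U hU b) = ι U hU (d.app U b) := fun U hU b =>
    key _ _ _ hU _ b (hs _)
  have hrep : ∀ y z : X.functionField, ∃ (W : X.Opens) (hW : η ∈ W) (a b : Γ(X, W)),
      gη W hW a = y ∧ gη W hW b = z := fun y z => by
    refine ⟨V y ⊓ V z, ⟨hV y, hV z⟩, res inf_le_left (s y), res inf_le_right (s z), ?_, ?_⟩
    · exact (TopCat.Presheaf.germ_res_apply X.presheaf _ η _ _).trans (hs y)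
    · exact (TopCat.Presheaf.germ_res_apply X.presheaf _ η _ _).trans (hs z)
  have hmul : ∀ y z, D₀ (y * z) = y • D₀ z + z • D₀ y := fun y z => by
    obtain ⟨W, hW, a, b, rfl, rfl⟩ := hrep y z
    rw [← map_mul, hD, hD, hD, OmegaLib.app_mul, map_add]
    show j W hW _ * c⁻¹ + j W hW _ * c⁻¹ = _ • (j W hW _ * c⁻¹) + _ • (j W hW _ * c⁻¹)
    rw [hsmul W hW, hsmul W hW, smul_eq_mul, smul_eq_mul]
    ring
  have hconst : ∀ x : k, D₀ (algebraMap k X.functionField x) = 0 := fun x => by
    rw [show algebraMap k X.functionField x = gη ⊤ trivial (ProjUP.toGlobal (X ↘ Spec (CommRingCat.of k)) x) from rfl,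
      hD, show d.app ⊤ (ProjUP.toGlobal (X ↘ Spec (CommRingCat.of k)) x) = 0 from
        OmegaLib.app_app d ⊤ ((Scheme.ΓSpecIso (CommRingCat.of k)).inv x), map_zero]
  have hadd : ∀ y z, D₀ (y + z) = D₀ y + D₀ z := fun y z => by
    obtain ⟨W, hW, a, b, rfl, rfl⟩ := hrep y z
    rw [← map_add, hD, hD, hD, map_add, map_add]
  let D : Derivation k X.functionField X.functionField := Derivation.mk'
    { toFun := D₀
      map_add' := hadd
      map_smul' := fun x y => by
        rw [Algebra.smul_def, hmul, hconst, smul_zero, add_zero, RingHom.id_apply, smul_eq_mul]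
        exact (Algebra.smul_def x (D₀ y)).symm }
    hmul
  refine ⟨D, ι, ?_, fun U hU a b h => ?_, fun U hU r s => ?_, fun U V hU hV h s => ?_, fun U hU b => (hD U hU b).symm⟩
  · show D₀ _ = 1
    rw [hD]
    exact mul_inv_cancel₀ hc
  · exact hj U hU (mul_right_cancel₀ (inv_ne_zero hc) h)
  · show j U hU (r • s) * c⁻¹ = gη U hU r * (j U hU s * c⁻¹)
    rw [hsmul U hU, mul_assoc]
  · show j V hV _ * c⁻¹ = j U hU s * c⁻¹
    rw [hres U V hU hV]

end Groth.Agent.OmegaDual24
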