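import Groth.Agent.OmegaDual24.Cocycle
import Groth.Agent.OmegaDual24.Generic
import Groth.Agent.CurveRR24.Sky

/-!
# Cohomology of a module embedded in the function field
-/

set_option autoImplicit false
set_option linter.style.haveILetI false
set_option linter.unusedSectionVars false
set_option backward.isDefEq.respectTransparency.types false
set_option maxHeartbeats 1000000

universe u

open CategoryTheory CategoryTheory.Limits AlgebraicGeometry Opposite TopologicalSpace
open Groth.Agent.Coherent Groth.Agent.PicLib Groth.Agent.EulerLib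

namespace Groth.Agent.OmegaDual24

variable {k : Type u} [Field k] {X : Scheme.{u}} [X.Over (Spec (CommRingCat.of k))]
  {L : Type u} [Field L] [Algebra k L]

/-- An embedding of the sections of a module into a field over `k`. -/
structure SecEmb (k : Type u) [Field k] {X : Scheme.{u}} [X.Over (Spec (CommRingCat.of k))]
    (L : Type u) [Field L] [Algebra k L] (M : X.Modules) where
  /-- the open sets concerned -/
  good : X.Opens → Prop
  /-- the map -/
  map : ∀ U : X.Opens, good U → (Γ(M, U) →+ L)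
  injective : ∀ U hU, Function.Injective (map U hU)
  map_gl : ∀ U hU (c : k) (s : Γ(M, U)),
    map U hU (EmbLib24.gl (X ↘ Spec (CommRingCat.of k)) U c • s) = c • map U hU s
  map_res : ∀ U V hU hV (h : V ≤ U) s, map V hV (resM M h s) = map U hU s

variable {M : X.Modules}

/-- The image of the sections over an open. -/
noncomputable def SecEmb.space (E : SecEmb k L M) (U : X.Opens) (hU : E.good U) : Submodule k L where
  carrier := Set.range (E.map U hU)
  add_mem' := by rintro _ _ ⟨a, rfl⟩ ⟨b, rfl⟩; exact ⟨a + b, map_add _ _ _⟩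
  zero_mem' := ⟨0, map_zero _⟩
  smul_mem' := by rintro c _ ⟨a, rfl⟩; exact ⟨_, E.map_gl U hU c a⟩

theorem SecEmb.mem_space {E : SecEmb k L M} {U : X.Opens} {hU : E.good U} {x : L} :
    x ∈ E.space U hU ↔ ∃ s, E.map U hU s = x := Iff.rfl

theorem SecEmb.space_mono (E : SecEmb k L M) {U V : X.Opens} (h : V ≤ U) (hU : E.good U) (hV : E.good V) :
    E.space U hU ≤ E.space V hV := by
  rintro _ ⟨s, rfl⟩
  exact ⟨resM M h s, E.map_res U V hU hV h s⟩

/-- Global sections are the intersection. -/
theorem SecEmb.finrank_h0 (E : SecEmb k L M) {U V : X.Opens} (h : U ⊔ V = ⊤) (hU : E.good U) (hV : E.good V)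
    (hT : E.good ⊤) (hI : E.good (U ⊓ V)) :
    Module.finrank k (Coh.HH X M 0) = Module.finrank k (E.space U hU ⊓ E.space V hV : Submodule k L) := by
  have hsp : E.space ⊤ hT = E.space U hU ⊓ E.space V hV := by
    refine le_antisymm (le_inf (E.space_mono le_top hT hU) (E.space_mono le_top hT hV)) ?_
    rintro x ⟨⟨a, ha⟩, ⟨b, hb⟩⟩
    obtain ⟨z, hz, -⟩ := exists_glue M h a b (E.injective (U ⊓ V) hI (by
      rw [E.map_res U _ hU hI, E.map_res V _ hV hI, ha, hb]))
    exact ⟨z, by rw [← E.map_res ⊤ U hT hU le_top z, hz, ha]⟩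
  rw [← hsp, (CurveRR24.hhZero k M).finrank_eq]
  refine (LinearEquiv.ofBijective (M := GA (baseHom k X) M) (M₂ := E.space ⊤ hT)
    { toFun := fun s => ⟨E.map ⊤ hT s, ⟨s, rfl⟩⟩
      map_add' := fun a b => Subtype.ext (map_add _ _ _)
      map_smul' := fun c a => Subtype.ext ?_ } ⟨fun a b hab => E.injective ⊤ hT (congrArg Subtype.val hab), ?_⟩).finrank_eq
  · refine Eq.trans ?_ (E.map_gl ⊤ hT c a)
    refine congrArg (E.map ⊤ hT) ?_
    show (baseHom k X c) • (show Γ(M, ⊤) from a) = _
    refine congrArg (· • (show Γ(M, ⊤) from a)) ?_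
    exact (ConcreteCategory.congr_hom (X.presheaf.map_id _) _).symm
  · rintro ⟨_, s, rfl⟩
    exact ⟨s, rfl⟩

/-- First cohomology is the glueing cokernel. -/
theorem SecEmb.finrank_h1 [Coh.IsQCoh M] (E : SecEmb k L M) {U V : X.Opens} (hAU : IsAffineOpen U)
    (hAV : IsAffineOpen V) (h : U ⊔ V = ⊤) (hU : E.good U) (hV : E.good V) (hI : E.good (U ⊓ V)) :
    Module.finrank k (Coh.HH X M 1) = Module.finrank k
      ((E.space (U ⊓ V) hI) ⧸ (E.space U hU ⊔ E.space V hV).comap (E.space (U ⊓ V) hI).subtype) := by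
  obtain ⟨δ, hδs, hδc, hδ0⟩ := exists_cocycle_mod (k := k) M hAU hAV h
  let I := E.space (U ⊓ V) hI
  let pre : I → Γ(M, U ⊓ V) := fun x => (SecEmb.mem_space.1 x.2).choose
  have hpre : ∀ x : I, E.map _ hI (pre x) = x := fun x => (SecEmb.mem_space.1 x.2).choose_spec
  let Φ : I →ₗ[k] Coh.HH X M 1 :=
    { toFun := fun x => δ (pre x)
      map_add' := fun a b => by
        rw [← map_add]
        refine congrArg δ (E.injective _ hI ?_)
        rw [map_add, hpre, hpre, hpre]
        rfl
      map_smul' := fun c a => by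
        rw [RingHom.id_apply, ← hδc]
        refine congrArg δ (E.injective _ hI ?_)
        rw [E.map_gl, hpre, hpre]
        rfl }
  have hker : LinearMap.ker Φ = (E.space U hU ⊔ E.space V hV).comap I.subtype := by
    ext x
    show δ (pre x) = 0 ↔ (x : L) ∈ E.space U hU ⊔ E.space V hV
    rw [hδ0, Submodule.mem_sup]
    constructor
    · rintro ⟨a, b, hab⟩
      refine ⟨E.map U hU a, ⟨a, rfl⟩, -E.map V hV b, neg_mem ⟨b, rfl⟩, ?_⟩
      rw [← hpre x, hab, map_sub, E.map_res U _ hU hI, E.map_res V _ hV hI, sub_eq_add_neg]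
    · rintro ⟨_, ⟨a, rfl⟩, y, ⟨b, hb⟩, hab⟩
      refine ⟨a, -b, E.injective _ hI ?_⟩
      rw [hpre, map_sub, E.map_res U _ hU hI, E.map_res V _ hV hI, map_neg, hb, sub_neg_eq_add, hab]
  have hsurj : Function.Surjective Φ := fun y => by
    obtain ⟨w, rfl⟩ := hδs y
    exact ⟨⟨_, w, rfl⟩, congrArg δ (E.injective _ hI (hpre _))⟩
  exact (((Submodule.quotEquivOfEq _ _ hker.symm).trans (Φ.quotKerEquivOfSurjective hsurj)).finrank_eq).symm

end Groth.Agent.OmegaDual24
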