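import Groth.Agent.OmegaDual24.Generic
import Groth.Agent.RatExtLib.DimOne
import Groth.Agent.P1SC24.Cover
import Groth.Agent.CurvesLib24.Basic
import Groth.Agent.DimLib.ProjDim
import Groth.Agent.CurveRR24.AlgClosed

/-!
# A finite generically étale map from a smooth proper curve to the line
-/

set_option autoImplicit false
set_option linter.style.haveILetI false
set_option backward.isDefEq.respectTransparency.types false
set_option maxHeartbeats 1000000

universe u

open CategoryTheory CategoryTheory.Limits AlgebraicGeometry Opposite TopologicalSpace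
open Groth.Agent.Coherent Groth.Agent.PicLib

namespace Groth.Agent.OmegaDual24

variable {k : Type u} [Field k] {X : Scheme.{u}} [X.Over (Spec (CommRingCat.of k))]
  [IsProper (X ↘ Spec (CommRingCat.of k))] [IsIntegral X] [Smooth (X ↘ Spec (CommRingCat.of k))]

/-- A finite map to the line whose coordinate has nonzero differential. -/
theorem exists_finite_map [IsAlgClosed k] (hdim : topologicalKrullDim X = 1) :
    ∃ (f : X ⟶ CohB1.ProjSpace 1 k), IsFinite f ∧
      f ≫ CohB1.ProjSpace.toSpec 1 k = X ↘ Spec (CommRingCat.of k) ∧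
      genericPoint X ∈ f ⁻¹ᵁ EmbLib24.chart 1 k 0 ∧
      (OmegaSh.dOmega (X ↘ Spec (CommRingCat.of k))).app (f ⁻¹ᵁ EmbLib24.chart 1 k 0)
        (P1SC24.coverRing f 0 Polynomial.X) ≠ 0 := by
  classical
  let q := X ↘ Spec (CommRingCat.of k)
  let d := OmegaSh.dOmega q
  let η := genericPoint X
  have hd := OmegaLib.isUniversal_dOmega q
  obtain ⟨G, hηG, g, hg⟩ := exists_isGen (isInvertible_omega (k := k) hdim) η
  obtain ⟨V, hV, hηV, hVG⟩ : ∃ V : X.Opens, IsAffineOpen V ∧ η ∈ V ∧ V ≤ G :=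
    Opens.isBasis_iff_nbhd.mp X.isBasis_affineOpens hηG
  obtain ⟨b, hb⟩ : ∃ b : Γ(X, V), d.app V b ≠ 0 := by
    by_contra hcon
    push Not at hcon
    have h := OmegaLib.span_range_app hd (e := show V ≤ q ⁻¹ᵁ ⊤ from le_top) (isAffineOpen_top _) hV
    rw [show Set.range (d.app V) = {0} from Set.eq_singleton_iff_unique_mem.2
      ⟨⟨0, hcon 0⟩, by rintro _ ⟨z, rfl⟩; exact hcon z⟩, Submodule.span_zero_singleton] at h
    have h1 : resM (Omega.sheaf q) hVG g = 0 := (Submodule.mem_bot (R := Γ(X, V))).1 (h ▸ trivial)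
    haveI : Nonempty V := ⟨⟨η, hηV⟩⟩
    exact one_ne_zero (α := Γ(X, V)) ((hg V hVG).1 (show (1 : Γ(X, V)) • resM (Omega.sheaf q) hVG g = (0 : Γ(X, V)) • resM (Omega.sheaf q) hVG g by rw [h1, smul_zero, smul_zero]))
  let U := EmbLib24.chart 1 k 0
  have hU : IsAffineOpen U := EmbLib24.isAffineOpen_chart 1 k 0
  let e := RingEquiv.ofBijective _ (P1SC24.bijective_chartRing k 0)
  let φ : Polynomial k →+* Γ(X, V) := Polynomial.eval₂RingHom (EmbLib24.gl q V) b
  let ψ : Γ(CohB1.ProjSpace 1 k, U) →+* Γ(X, V) := φ.comp e.symm.toRingHom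
  have hψ : ∀ p, ψ (P1SC24.chartRing k 0 p) = φ p := fun p => congrArg φ (e.symm_apply_apply p)
  let s : (V : Scheme.{u}) ⟶ CohB1.ProjSpace 1 k := hV.isoSpec.hom ≫ Spec.map (CommRingCat.ofHom ψ) ≫ hU.fromSpec
  have hs : s ≫ CohB1.ProjSpace.toSpec 1 k = V.ι ≫ q := by
    have h1 : hU.fromSpec ≫ CohB1.ProjSpace.toSpec 1 k =
        Spec.map (CommRingCat.ofHom (EmbLib24.gl (CohB1.ProjSpace.toSpec 1 k) U)) := by
      rw [IsAffineOpen.fromSpec, Category.assoc, EmbLib24.toSpecΓ_gl, ← IsAffineOpen.isoSpec_hom hU,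
        Iso.inv_hom_id_assoc]
    rw [EmbLib24.toSpecΓ_gl, ← IsAffineOpen.isoSpec_hom hV]
    simp only [s, Category.assoc, h1, ← Spec.map_comp]
    refine congrArg (hV.isoSpec.hom ≫ ·) (congrArg Spec.map (CommRingCat.hom_ext (RingHom.ext fun c => ?_)))
    show ψ (EmbLib24.gl (CohB1.ProjSpace.toSpec 1 k) U c) = _
    rw [← P1SC24.chartRing_C, hψ]
    exact Polynomial.eval₂_C _ _
  haveI : IsProper (CohB1.ProjSpace.toSpec 1 k) := isProper_projSpace_toSpec 1 k
  let π := pullback.snd (CohB1.ProjSpace.toSpec 1 k) q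
  haveI : IsLocallyNoetherian X := LocallyOfFiniteType.isLocallyNoetherian q
  have hreg : ∀ y : X, ringKrullDim (X.presheaf.stalk y) ≤ 1 → IsRegularLocalRing (X.presheaf.stalk y) :=
    fun y _ => VarietyLib.isRegularLocalRing_stalk_of_smooth k _ q y
  obtain ⟨W, hVW, s', hs', hres, hW⟩ := RatExtLib.exists_extension_dimOne hreg π (π.isClosedMap) V
    (V.2.dense ⟨η, hηV⟩) (pullback.lift s V.ι hs) (pullback.lift_snd _ _ _)
  have hWtop : W = ⊤ := top_le_iff.1 fun y _ => hW y (by
    rcases CurvesLib24.eq_genericPoint_or_isClosed hdim.le y with rfl | hy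
    · let _ : Field (X.presheaf.stalk (genericPoint X)) := inferInstanceAs (Field X.functionField)
      rw [ringKrullDim_eq_zero_of_field]; exact zero_le_one
    · exact (CurveRR24.stalk_dim_eq_one hdim hy).le)
  subst hWtop
  let f := X.topIso.inv ≫ s' ≫ pullback.fst (CohB1.ProjSpace.toSpec 1 k) q
  have hf : f ≫ CohB1.ProjSpace.toSpec 1 k = q := by
    simp only [f, Category.assoc, pullback.condition]
    rw [← Category.assoc s', hs']
    exact X.topIso.inv_hom_id_assoc q
  have hVf : V.ι ≫ f = s := by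
    have h : V.ι ≫ X.topIso.inv = X.homOfLE hVW := by
      rw [← cancel_mono (⊤ : X.Opens).ι, Category.assoc,
        show X.topIso.inv ≫ (⊤ : X.Opens).ι = 𝟙 X from X.topIso.inv_hom_id, Category.comp_id, Scheme.homOfLE_ι]
    simp only [f]
    rw [← Category.assoc, h, ← Category.assoc, hres, pullback.lift_fst]
  have hle : V ≤ f ⁻¹ᵁ U := fun x hx => by
    show f x ∈ U
    rw [show f x = s ⟨x, hx⟩ from congr($(hVf) ⟨x, hx⟩)]
    exact hU.range_fromSpec.le ⟨_, rfl⟩
  have hb' : resM (Omega.sheaf q) hle (d.app (f ⁻¹ᵁ U) (P1SC24.coverRing f 0 Polynomial.X)) = d.app V b := by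
    refine (OmegaLib.app_map d hle _).symm.trans (congrArg (d.app V) ?_)
    have h1 : f.appLE U V hle = CommRingCat.ofHom ψ := by
      apply Spec.map_injective
      rw [← cancel_mono hU.fromSpec, hU.SpecMap_appLE_fromSpec f hV hle]
      simp only [IsAffineOpen.fromSpec, Category.assoc, hVf, s]
      rw [Iso.inv_hom_id_assoc]
    show f.appLE U V hle (P1SC24.chartRing k 0 Polynomial.X) = b
    rw [h1]
    exact (hψ _).trans (Polynomial.eval₂_X _ _)
  have hne0 : d.app (f ⁻¹ᵁ U) (P1SC24.coverRing f 0 Polynomial.X) ≠ 0 := fun h => hb (by rw [← hb', h, map_zero])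
  refine ⟨f, ?_, hf, hle hηV, hne0⟩
  let _ : (CohB1.ProjSpace 1 k).Over (Spec (CommRingCat.of k)) := ⟨CohB1.ProjSpace.toSpec 1 k⟩
  haveI : IsProper ((CohB1.ProjSpace 1 k) ↘ Spec (CommRingCat.of k)) := isProper_projSpace_toSpec 1 k
  haveI : IsProper (f ≫ CohB1.ProjSpace.toSpec 1 k) := by rw [hf]; exact inferInstanceAs (IsProper q)
  haveI : IsProper f := IsProper.of_comp f (CohB1.ProjSpace.toSpec 1 k)
  haveI := CurveLib.isIntegral_projSpace k 1
  haveI : CompactSpace X := QuasiCompact.compactSpace_of_compactSpace q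
  have hP1 := DimLib.PN.topologicalKrullDim_projSpace 1 k
  suffices hgen : f.base (genericPoint X) = genericPoint (CohB1.ProjSpace 1 k) by
    haveI : LocallyQuasiFinite f := LocallyQuasiFinite.of_finite_preimage_singleton f
      (CurvesLib24.finite_preimage_singleton hdim.le hP1.le f (CurvesLib24.not_isClosed_genericPoint hP1) hgen)
    exact IsFinite.of_isProper_of_locallyQuasiFinite f
  by_contra hgen
  have hcl := (CurvesLib24.eq_genericPoint_or_isClosed hP1.le (f η)).resolve_left hgen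
  refine hne0 ?_
  have hconst : ∀ x, f x = f η := fun x => by
    have h := ((genericPoint_specializes x).map f.continuous).mem_closed hcl (Set.mem_singleton _)
    exact h
  have htop : f ⁻¹ᵁ U = ⊤ := top_le_iff.1 fun x _ => show f x ∈ U from (hconst x).symm ▸ hle hηV
  haveI : ConnectedSpace X := inferInstance
  obtain ⟨c, hc⟩ := AbSchLib.surjective_appTop_of_isAlgClosed k q
    (X.presheaf.map (homOfLE htop.ge).op (P1SC24.coverRing f 0 Polynomial.X))
  have h2 := OmegaLib.app_app d ⊤ c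
  change d.app ⊤ (q.appTop c) = 0 at h2
  rw [show q.appTop c = _ from hc] at h2
  have h3 := congrArg (resM (Omega.sheaf q) htop.le) h2
  rw [map_zero] at h3
  refine Eq.trans ?_ h3
  rw [← show d.app (f ⁻¹ᵁ U) (X.presheaf.map (homOfLE htop.le).op (X.presheaf.map (homOfLE htop.ge).op
      (P1SC24.coverRing f 0 Polynomial.X))) = _ from OmegaLib.app_map d htop.le _]
  refine congrArg (d.app _) ?_
  rw [← CommRingCat.comp_apply, ← Functor.map_comp]
  exact (ConcreteCategory.congr_hom (X.presheaf.map_id _) _).symm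

end Groth.Agent.OmegaDual24
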