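import Mathlib.RingTheory.Trace.Basic
import Mathlib.RingTheory.Localization.Integer
import Mathlib.LinearAlgebra.Finsupp.LinearCombination
import Mathlib.LinearAlgebra.Dual.Lemmas
import Mathlib.Algebra.Polynomial.AlgebraMap
import Mathlib.Data.Int.Interval

/-!
# Residue duality for pairs of lattices over the line

For a pair of lattices `M₀`, `M₁` in a finite separable extension of `k(T)` glued on `M₀₁`, the dual of
`M₀₁ / (M₀ + M₁)` is the space of elements pairing `M₀` into `k[T]` and `M₁` into `T⁻² k[T⁻¹]` by trace.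
-/

set_option autoImplicit false
set_option linter.style.haveILetI false
set_option linter.unusedSectionVars false
set_option backward.isDefEq.respectTransparency.types false

universe u v w

open Polynomial

namespace Groth.Agent.OmegaDual24

variable {k : Type u} [Field k] {K : Type w} [Field K] [Algebra k K] [Algebra k[X] K]
  [IsFractionRing k[X] K] [IsScalarTower k k[X] K]

/-- The variable of the line. -/
noncomputable def lineVar : K := algebraMap k[X] K X

local notation "T" => (lineVar (k := k) : K)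

theorem lineVar_ne_zero : (T) ≠ 0 :=
  (map_ne_zero_iff _ (IsFractionRing.injective k[X] K)).2 X_ne_zero

theorem algebraMap_eq_aeval (p : k[X]) : algebraMap k[X] K p = aeval (T) p := by
  have : IsScalarTower.toAlgHom k k[X] K = aeval (T) := Polynomial.algHom_ext (by simp [lineVar])
  exact AlgHom.congr_fun this p

/-- Laurent polynomials as elements of the function field. -/
noncomputable def laurent : (ℤ →₀ k) →ₗ[k] K := Finsupp.linearCombination k fun j : ℤ => T ^ j

theorem laurent_single (j : ℤ) (a : k) : laurent (K := K) (Finsupp.single j a) = a • T ^ j :=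
  Finsupp.linearCombination_single k a j

theorem laurent_shift (i : ℤ) (f : ℤ →₀ k) :
    laurent (K := K) (Finsupp.mapDomain (i + ·) f) = T ^ i * laurent f := by
  induction f using Finsupp.induction_linear with
  | zero => simp
  | add f g hf hg => rw [Finsupp.mapDomain_add, map_add, hf, hg, map_add, mul_add]
  | single j a =>
    rw [Finsupp.mapDomain_single, laurent_single, laurent_single, zpow_add₀ lineVar_ne_zero, mul_smul_comm]

/-- Laurent series supported in nonnegative degrees are the polynomials. -/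
theorem laurent_mem_range (f : ℤ →₀ k) (hf : ∀ j < 0, f j = 0) :
    laurent (K := K) f ∈ (aeval (R := k) (T)).range := by
  rw [laurent, Finsupp.linearCombination_apply]
  refine Subalgebra.sum_mem _ fun j hj => ?_
  have hj0 : 0 ≤ j := le_of_not_gt fun h => (Finsupp.mem_support_iff.1 hj) (hf j h)
  obtain ⟨n, rfl⟩ := Int.eq_ofNat_of_zero_le hj0
  simp only [zpow_natCast]
  refine Subalgebra.smul_mem _ (AlgHom.mem_range _ |>.2 ⟨X ^ n, ?_⟩) _
  simp

/-- Laurent series supported in nonpositive degrees are the polynomials in the inverse. -/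
theorem laurent_mem_range_inv (f : ℤ →₀ k) (hf : ∀ j > 0, f j = 0) :
    laurent (K := K) f ∈ (aeval (R := k) (T)⁻¹).range := by
  rw [laurent, Finsupp.linearCombination_apply]
  refine Subalgebra.sum_mem _ fun j hj => ?_
  have hj0 : j ≤ 0 := le_of_not_gt fun h => (Finsupp.mem_support_iff.1 hj) (hf j h)
  obtain ⟨n, hn⟩ := Int.eq_ofNat_of_zero_le (neg_nonneg.2 hj0)
  rw [show j = -(n : ℤ) by omega]
  simp only [zpow_neg, zpow_natCast, ← inv_pow]
  refine Subalgebra.smul_mem _ (AlgHom.mem_range _ |>.2 ⟨X ^ n, ?_⟩) _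
  simp

theorem exists_laurent_of_mem_range {z : K} (hz : z ∈ (aeval (R := k) (T)).range) :
    ∃ f : ℤ →₀ k, (∀ j < 0, f j = 0) ∧ laurent f = z := by
  classical
  obtain ⟨p, rfl⟩ := hz
  induction p using Polynomial.induction_on' with
  | add p q hp hq =>
    obtain ⟨f, hf, hf'⟩ := hp
    obtain ⟨g, hg, hg'⟩ := hq
    exact ⟨f + g, fun j hj => by simp [hf j hj, hg j hj],
      (map_add _ _ _).trans ((congrArg₂ (· + ·) hf' hg').trans (map_add (aeval (R := k) (T)) p q).symm)⟩
  | monomial n a =>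
    exact ⟨Finsupp.single (n : ℤ) a, fun j hj => Finsupp.single_eq_of_ne (by omega),
      by simp [laurent_single, Algebra.smul_def, aeval_monomial]⟩

theorem exists_laurent_of_mem_range_inv {z : K} (hz : z ∈ (aeval (R := k) (T)⁻¹).range) :
    ∃ f : ℤ →₀ k, (∀ j > 0, f j = 0) ∧ laurent f = z := by
  classical
  obtain ⟨p, rfl⟩ := hz
  induction p using Polynomial.induction_on' with
  | add p q hp hq =>
    obtain ⟨f, hf, hf'⟩ := hp
    obtain ⟨g, hg, hg'⟩ := hq
    exact ⟨f + g, fun j hj => by simp [hf j hj, hg j hj],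
      (map_add _ _ _).trans ((congrArg₂ (· + ·) hf' hg').trans (map_add (aeval (R := k) (T)⁻¹) p q).symm)⟩
  | monomial n a =>
    exact ⟨Finsupp.single (-(n : ℤ)) a, fun j hj => Finsupp.single_eq_of_ne (by omega),
      by simp [laurent_single, Algebra.smul_def, aeval_monomial, zpow_neg]⟩

theorem laurent_injective : Function.Injective (laurent (k := k) (K := K)) := by
  classical
  refine (injective_iff_map_eq_zero _).2 fun f hf => ?_
  obtain ⟨n, hn⟩ : ∃ n : ℕ, ∀ j ∈ f.support, -(n : ℤ) ≤ j := ⟨∑ j ∈ f.support, j.natAbs, fun j hj => by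
    have := Finset.single_le_sum (f := Int.natAbs) (fun i _ => Nat.zero_le _) hj
    omega⟩
  let p : k[X] := f.sum fun j a => monomial (j + n).toNat a
  have hp : algebraMap k[X] K p = T ^ (n : ℤ) * laurent f := by
    simp only [p, laurent, Finsupp.linearCombination_apply, Finsupp.sum, map_sum, Finset.mul_sum,
      algebraMap_eq_aeval, aeval_monomial]
    refine Finset.sum_congr rfl fun j hj => ?_
    rw [← zpow_natCast, Int.toNat_of_nonneg (by have := hn j hj; omega), zpow_add₀ lineVar_ne_zero,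
      Algebra.smul_def]
    ring
  rw [hf, mul_zero, map_eq_zero_iff _ (IsFractionRing.injective k[X] K)] at hp
  refine Finsupp.ext fun j => ?_
  by_contra hj
  have hjs := Finsupp.mem_support_iff.2 hj
  have h := congrArg (fun q : k[X] => q.coeff (j + n).toNat) hp
  simp only [p, Finsupp.sum, finset_sum_coeff, coeff_monomial, coeff_zero] at h
  rw [Finset.sum_eq_single j (fun i hi hne => if_neg (by have := hn i hi; have := hn j hjs; omega))
    (fun h => absurd hjs h), if_pos rfl] at h
  exact hj h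

section

variable {L : Type v} [Field L] [Algebra k L] [Algebra K L] [IsScalarTower k K L] [FiniteDimensional K L]
  [Algebra.IsSeparable K L]

local notation "τ" => algebraMap K L (lineVar (k := k))

/-- Residue pairing: the orthogonal of a pair of lattices is dual to their glueing cokernel. -/
theorem exists_equiv_dual (M₀ M₁ M₀₁ : Submodule k L) (h₀ : M₀ ≤ M₀₁) (h₁ : M₁ ≤ M₀₁)
    (hs₀ : ∀ m ∈ M₀, τ * m ∈ M₀) (hs₁ : ∀ m ∈ M₁, (τ)⁻¹ * m ∈ M₁)
    (hs : ∀ (i : ℤ), ∀ m ∈ M₀₁, τ ^ i * m ∈ M₀₁)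
    (hp₀ : ∀ m ∈ M₀₁, ∃ n : ℕ, τ ^ n * m ∈ M₀) (hp₁ : ∀ m ∈ M₀₁, ∃ n : ℕ, (τ)⁻¹ ^ n * m ∈ M₁)
    (hspan : ∀ z : L, ∃ a : k[X], a ≠ 0 ∧ algebraMap K L (algebraMap k[X] K a) * z ∈ M₀) :
    ∃ N : Submodule k L, (∀ ξ, ξ ∈ N ↔
        (∀ m ∈ M₀, Algebra.trace K L (ξ * m) ∈ (algebraMap k[X] K).range) ∧
        ∀ m ∈ M₁, T ^ 2 * Algebra.trace K L (ξ * m) ∈ (aeval (R := k) (T)⁻¹).range) ∧
      Nonempty (N ≃ₗ[k] Module.Dual k (M₀₁ ⧸ (M₀ ⊔ M₁).comap M₀₁.subtype)) := by
  classical
  have hτ : τ ≠ 0 := (_root_.map_ne_zero _).2 lineVar_ne_zero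
  obtain ⟨coef, hcoef⟩ := (laurent (k := k) (K := K)).exists_leftInverse_of_injective
    (LinearMap.ker_eq_bot.2 laurent_injective)
  have hc : ∀ f, coef (laurent f) = f := fun f => LinearMap.congr_fun hcoef f
  have hrange : ∀ z : K, z ∈ (algebraMap k[X] K).range ↔ z ∈ (aeval (R := k) (T)).range := fun z =>
    ⟨fun ⟨p, hp⟩ => ⟨p, (algebraMap_eq_aeval p).symm.trans hp⟩,
      fun ⟨p, hp⟩ => ⟨p, (algebraMap_eq_aeval p).trans hp⟩⟩
  let tr : L → L →ₗ[k] K := fun ξ =>
    ((Algebra.trace K L).restrictScalars k).comp (LinearMap.mulLeft k ξ)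
  let N : Submodule k L :=
    { carrier := {ξ | (∀ m ∈ M₀, Algebra.trace K L (ξ * m) ∈ (algebraMap k[X] K).range) ∧
        ∀ m ∈ M₁, T ^ 2 * Algebra.trace K L (ξ * m) ∈ (aeval (R := k) (T)⁻¹).range}
      add_mem' := fun {a b} ha hb => ⟨fun m hm => by
          rw [add_mul, map_add]; exact add_mem (ha.1 m hm) (hb.1 m hm),
        fun m hm => by rw [add_mul, map_add, mul_add]; exact add_mem (ha.2 m hm) (hb.2 m hm)⟩
      zero_mem' := ⟨fun m _ => by simp, fun m _ => by simp⟩
      smul_mem' := fun c a ha => ⟨fun m hm => by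
          rw [smul_mul_assoc, LinearMap.map_smul_of_tower, hrange]
          exact Subalgebra.smul_mem _ ((hrange _).1 (ha.1 m hm)) c,
        fun m hm => by
          rw [smul_mul_assoc, LinearMap.map_smul_of_tower, mul_smul_comm]
          exact Subalgebra.smul_mem _ (ha.2 m hm) c⟩ }
  -- traces of the glued lattice are Laurent polynomials
  have hlau : ∀ ξ ∈ N, ∀ m ∈ M₀₁, ∃ f, laurent f = tr ξ m := fun ξ hξ m hm => by
    obtain ⟨n, hn⟩ := hp₀ m hm
    obtain ⟨f, -, hf⟩ := exists_laurent_of_mem_range ((hrange _).1 (hξ.1 _ hn))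
    refine ⟨Finsupp.mapDomain (-(n : ℤ) + ·) f, ?_⟩
    rw [laurent_shift, hf]
    show _ = Algebra.trace K L (ξ * m)
    rw [show ξ * (τ ^ n * m) = algebraMap K L (T ^ n) * (ξ * m) by rw [map_pow]; ring, ← Algebra.smul_def,
      map_smul, smul_eq_mul, ← mul_assoc, zpow_neg, zpow_natCast,
      inv_mul_cancel₀ (pow_ne_zero _ lineVar_ne_zero), one_mul]
  have hshift : ∀ ξ ∈ N, ∀ m ∈ M₀₁, ∀ i j : ℤ, coef (tr ξ (τ ^ i * m)) j = coef (tr ξ m) (j - i) := by
    intro ξ hξ m hm i j
    obtain ⟨f, hf⟩ := hlau ξ hξ m hm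
    have : tr ξ (τ ^ i * m) = laurent (Finsupp.mapDomain (i + ·) f) := by
      rw [laurent_shift, hf]
      show Algebra.trace K L (ξ * (τ ^ i * m)) = T ^ i * Algebra.trace K L (ξ * m)
      rw [show ξ * (τ ^ i * m) = algebraMap K L (T ^ i) * (ξ * m) by rw [map_zpow₀]; ring,
        ← Algebra.smul_def, map_smul, smul_eq_mul]
    rw [this, hc, ← hf, hc]
    conv_lhs => rw [show j = i + (j - i) by ring]
    exact Finsupp.mapDomain_apply (add_right_injective i) f _
  let R : N → M₀₁ →ₗ[k] k := fun ξ => ((Finsupp.lapply (-1 : ℤ)).comp (coef.comp (tr ξ))).comp M₀₁.subtype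
  have hkill : ∀ ξ : N, (M₀ ⊔ M₁).comap M₀₁.subtype ≤ LinearMap.ker (R ξ) := fun ξ x hx => by
    obtain ⟨a, ha, b, hb, hab⟩ := Submodule.mem_sup.1 hx
    show coef (tr ξ (x : L)) (-1) = 0
    rw [show (x : L) = a + b from hab.symm, map_add, map_add, Finsupp.add_apply]
    obtain ⟨f, hf, hf'⟩ := exists_laurent_of_mem_range ((hrange _).1 (ξ.2.1 a ha))
    obtain ⟨g, hg, hg'⟩ := exists_laurent_of_mem_range_inv (ξ.2.2 b hb)
    have hb' : tr ξ b = laurent (Finsupp.mapDomain (-2 + ·) g) := by
      rw [laurent_shift, hg']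
      show Algebra.trace K L (ξ * b) = T ^ (-2 : ℤ) * (T ^ 2 * Algebra.trace K L (ξ * b))
      rw [← mul_assoc, ← zpow_natCast, ← zpow_add₀ lineVar_ne_zero]
      simp
    rw [show tr ξ a = laurent f from hf'.symm, hb', hc, hc, hf _ (by norm_num),
      show (-1 : ℤ) = -2 + 1 by norm_num, Finsupp.mapDomain_apply (add_right_injective _), hg _ one_pos, add_zero]
  let Θ : N →ₗ[k] Module.Dual k (M₀₁ ⧸ (M₀ ⊔ M₁).comap M₀₁.subtype) :=
    { toFun := fun ξ => Submodule.liftQ _ (R ξ) (hkill ξ)
      map_add' := fun a b => Submodule.linearMap_qext _ (LinearMap.ext fun x => by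
        simp [R, tr, add_mul])
      map_smul' := fun c a => Submodule.linearMap_qext _ (LinearMap.ext fun x => by
        simp [R, tr, smul_mul_assoc]) }
  refine ⟨N, fun ξ => Iff.rfl, ⟨LinearEquiv.ofBijective Θ ⟨(injective_iff_map_eq_zero _).2 fun ξ hξ => ?_,
    fun μ => ?_⟩⟩⟩
  · have h1 : ∀ m ∈ M₀, Algebra.trace K L ((ξ : L) * m) = 0 := fun m hm => by
      obtain ⟨f, hf⟩ := hlau ξ ξ.2 m (h₀ hm)
      have hf0 : f = 0 := Finsupp.ext fun j => by
        have h2 := LinearMap.congr_fun hξ (Submodule.Quotient.mk ⟨τ ^ (-1 - j) * m, hs _ m (h₀ hm)⟩)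
        change coef (tr ξ (τ ^ (-1 - j) * m)) (-1) = 0 at h2
        rw [hshift ξ ξ.2 m (h₀ hm), ← hf, hc] at h2
        simpa using h2
      show tr ξ m = 0
      rw [← hf, hf0, map_zero]
    refine Subtype.ext ((traceForm_nondegenerate K L).1 _ fun z => ?_)
    obtain ⟨a, ha, hz⟩ := hspan z
    have h2 := h1 _ hz
    rw [mul_left_comm, ← Algebra.smul_def, map_smul, smul_eq_mul, mul_eq_zero] at h2
    exact h2.resolve_left ((map_ne_zero_iff _ (IsFractionRing.injective k[X] K)).2 ha)
  · let lam : M₀₁ →ₗ[k] k := μ.comp (Submodule.mkQ _)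
    have hlam : ∀ x : M₀₁, (x : L) ∈ M₀ ∨ (x : L) ∈ M₁ → lam x = 0 := fun x hx => by
      show μ (Submodule.mkQ _ x) = 0
      rw [Submodule.mkQ_apply, (Submodule.Quotient.mk_eq_zero _).2 (show x ∈ (M₀ ⊔ M₁).comap M₀₁.subtype from
        hx.elim (fun h => Submodule.mem_sup_left h) fun h => Submodule.mem_sup_right h)]
      exact map_zero μ
    have hsh : ∀ n : ℕ, (∀ m ∈ M₀, τ ^ n * m ∈ M₀) ∧ ∀ m ∈ M₁, (τ)⁻¹ ^ n * m ∈ M₁ := fun n => by
      induction n with
      | zero => simp
      | succ n ih => exact ⟨fun m hm => by rw [pow_succ, mul_assoc]; exact ih.1 _ (hs₀ m hm),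
          fun m hm => by rw [pow_succ, mul_assoc]; exact ih.2 _ (hs₁ m hm)⟩
    let c : M₀₁ → ℤ → k := fun m j => lam ⟨τ ^ (-1 - j) * m, hs _ _ m.2⟩
    have hsupp : ∀ m : M₀₁, ∃ S : Finset ℤ, ∀ j, c m j ≠ 0 → j ∈ S := fun m => by
      obtain ⟨n, hn⟩ := hp₀ _ m.2
      obtain ⟨n', hn'⟩ := hp₁ _ m.2
      refine ⟨Finset.Icc (-(n : ℤ)) (n' : ℤ), fun j hj => ?_⟩
      by_contra hout
      rw [Finset.mem_Icc, not_and_or, not_le, not_le] at hout
      refine hj (hlam _ (hout.imp (fun h => ?_) fun h => ?_))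
      · obtain ⟨d, hd⟩ := Int.eq_ofNat_of_zero_le (show 0 ≤ -1 - j - n by omega)
        show τ ^ (-1 - j) * (m : L) ∈ M₀
        rw [show -1 - j = (d : ℤ) + (n : ℤ) by omega, zpow_add₀ hτ, mul_assoc, zpow_natCast, zpow_natCast]
        exact (hsh d).1 _ hn
      · obtain ⟨d, hd⟩ := Int.eq_ofNat_of_zero_le (show 0 ≤ 1 + j - n' by omega)
        show τ ^ (-1 - j) * (m : L) ∈ M₁
        rw [show -1 - j = -(d : ℤ) + -(n' : ℤ) by omega, zpow_add₀ hτ, mul_assoc, zpow_neg, zpow_neg,
          zpow_natCast, zpow_natCast, ← inv_pow, ← inv_pow]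
        exact (hsh d).2 _ hn'
    choose S hS using hsupp
    let F : M₀₁ → ℤ →₀ k := fun m => Finsupp.onFinset (S m) (c m) (hS m)
    let Λ : M₀₁ →ₗ[k] K :=
      { toFun := fun m => laurent (F m)
        map_add' := fun a b => by
          rw [← map_add]
          congr 1
          ext j
          simp only [F, Finsupp.onFinset_apply, Finsupp.add_apply, c, ← map_add]
          exact congrArg lam (Subtype.ext (mul_add _ _ _))
        map_smul' := fun a b => by
          rw [RingHom.id_apply, ← map_smul]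
          congr 1
          ext j
          simp only [F, Finsupp.onFinset_apply, Finsupp.smul_apply, c, ← map_smul]
          exact congrArg lam (Subtype.ext (mul_smul_comm _ _ _)) }
    have hΛ : ∀ (i : ℤ) (m : M₀₁), Λ ⟨τ ^ i * m, hs _ _ m.2⟩ = T ^ i * Λ m := fun i m => by
      show laurent (F _) = T ^ i * laurent (F m)
      rw [← laurent_shift]
      congr 1
      ext j
      conv_rhs => rw [show j = i + (j - i) by ring]
      rw [Finsupp.mapDomain_apply (add_right_injective i)]
      simp only [F, Finsupp.onFinset_apply, c]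
      refine congrArg lam (Subtype.ext ?_)
      show τ ^ (-1 - j) * (τ ^ i * (m : L)) = τ ^ (-1 - (j - i)) * (m : L)
      rw [← mul_assoc, ← zpow_add₀ hτ, show -1 - (j - i) = -1 - j + i by ring]
    have hpol : ∀ (p : k[X]) (m : M₀₁), ∃ y : M₀₁,
        (y : L) = algebraMap K L (algebraMap k[X] K p) * m ∧ Λ y = algebraMap k[X] K p * Λ m := fun p m => by
      induction p using Polynomial.induction_on' with
      | add p q hp hq =>
        obtain ⟨y, hy, hy'⟩ := hp
        obtain ⟨y', hy₂, hy₂'⟩ := hq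
        exact ⟨y + y', by rw [Submodule.coe_add, hy, hy₂]; simp [add_mul], by
          rw [map_add, hy', hy₂', map_add, add_mul]⟩
      | monomial n a =>
        refine ⟨a • ⟨τ ^ (n : ℤ) * m, hs _ _ m.2⟩, ?_, ?_⟩
        · rw [algebraMap_eq_aeval, aeval_monomial, map_mul, ← IsScalarTower.algebraMap_apply k K L, map_pow,
            Submodule.coe_smul, Algebra.smul_def]
          simp only [zpow_natCast]
          ring
        · rw [map_smul, hΛ, algebraMap_eq_aeval, aeval_monomial, Algebra.smul_def, zpow_natCast]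
          ring
    let b := Module.Free.chooseBasis K L
    choose a ha hab using fun i => hspan (b i)
    have ha' : ∀ i, algebraMap k[X] K (a i) ≠ 0 := fun i =>
      (map_ne_zero_iff _ (IsFractionRing.injective k[X] K)).2 (ha i)
    let b' := b.unitsSMul fun i => Units.mk0 _ (ha' i)
    have hb' : ∀ i, b' i ∈ M₀ := fun i => by
      rw [Module.Basis.unitsSMul_apply, Units.smul_def, Units.val_mk0, Algebra.smul_def]; exact hab i
    let ℓ : L →ₗ[K] K := b'.constr K fun i => Λ ⟨b' i, h₀ (hb' i)⟩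
    have hℓ₀ : ∀ m : M₀₁, ℓ m = Λ m := fun m => by
      obtain ⟨d, hd⟩ := IsLocalization.exist_integer_multiples_of_finite (nonZeroDivisors k[X])
        (fun i => b'.repr (m : L) i)
      choose p hp using hd
      choose y hy hy' using fun i => hpol (p i) ⟨b' i, h₀ (hb' i)⟩
      obtain ⟨z, hz, hz'⟩ := hpol d m
      have hzy : z = ∑ i, y i := Subtype.ext (by
        rw [hz, AddSubmonoidClass.coe_finsetSum]
        simp only [hy, hp, Algebra.smul_def, map_mul]
        conv_lhs => rw [← b'.sum_repr (m : L), Finset.mul_sum]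
        exact Finset.sum_congr rfl fun i _ => by rw [Algebra.smul_def]; ring)
      have h := hz'.symm.trans ((congrArg Λ hzy).trans (map_sum Λ _ _))
      simp only [hy', hp, Algebra.smul_def] at h
      refine mul_left_cancel₀ ((map_ne_zero_iff _ (IsFractionRing.injective k[X] K)).2
        (nonZeroDivisors.ne_zero d.2)) ?_
      rw [h, Module.Basis.constr_apply_fintype, Finset.mul_sum]
      exact Finset.sum_congr rfl fun i _ => by
        rw [Module.Basis.equivFun_apply, smul_eq_mul]; ring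
    have hnd : (Algebra.traceForm K L).Nondegenerate := traceForm_nondegenerate K L
    let ξ : L := ((Algebra.traceForm K L).toDual hnd).symm ℓ
    have hξ : ∀ z, Algebra.trace K L (ξ * z) = ℓ z := fun z =>
      LinearMap.BilinForm.apply_toDual_symm_apply (hB := hnd) ℓ z
    have hξN : ξ ∈ N := by
      refine ⟨fun m hm => ?_, fun m hm => ?_⟩
      · rw [hξ, show ℓ m = Λ ⟨m, h₀ hm⟩ from hℓ₀ ⟨m, h₀ hm⟩, hrange]
        refine laurent_mem_range _ fun j hj => ?_
        obtain ⟨d, hd⟩ := Int.eq_ofNat_of_zero_le (show 0 ≤ -1 - j by omega)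
        rw [Finsupp.onFinset_apply]
        refine hlam _ (Or.inl ?_)
        show τ ^ (-1 - j) * m ∈ M₀
        rw [hd, zpow_natCast]
        exact (hsh d).1 m hm
      · rw [hξ, show ℓ m = Λ ⟨m, h₁ hm⟩ from hℓ₀ ⟨m, h₁ hm⟩]
        show T ^ 2 * laurent (F _) ∈ _
        rw [← zpow_natCast, ← laurent_shift]
        refine laurent_mem_range_inv _ fun j hj => ?_
        rw [show j = ((2 : ℕ) : ℤ) + (j - 2) by omega, Finsupp.mapDomain_apply (add_right_injective _),
          Finsupp.onFinset_apply]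
        obtain ⟨d, hd⟩ := Int.eq_ofNat_of_zero_le (show 0 ≤ 1 + (j - 2) by omega)
        refine hlam _ (Or.inr ?_)
        show τ ^ (-1 - (j - 2)) * m ∈ M₁
        rw [show -1 - (j - 2) = -(d : ℤ) by omega, zpow_neg, zpow_natCast, ← inv_pow]
        exact (hsh d).2 m hm
    refine ⟨⟨ξ, hξN⟩, Submodule.linearMap_qext _ (LinearMap.ext fun x => ?_)⟩
    show coef (Algebra.trace K L (ξ * (x : L))) (-1) = lam x
    rw [hξ, hℓ₀]
    show coef (laurent (F x)) (-1) = lam x
    rw [hc, Finsupp.onFinset_apply]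
    exact congrArg lam (Subtype.ext (by simp))

end

end Groth.Agent.OmegaDual24
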