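import Groth.Agent.OmegaDual24.Sides
import Groth.Agent.OmegaDual24.Lattices
import Groth.Agent.OmegaDual24.CurveLattice
import Groth.Agent.OmegaDual24.CurveMap
import Groth.Agent.NeronLib.NormalSmooth
import Groth.Agent.NormalExtLib.Basic
import Groth.Agent.CurveRR24.DoubleCover.Insep

/-!
# Differentials on smooth proper curves over algebraically closed fields: `h⁰ = g`, `h¹ = 1`
-/

set_option autoImplicit false
set_option linter.style.haveILetI false
set_option linter.unusedSectionVars false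
set_option backward.isDefEq.respectTransparency.types false
set_option maxHeartbeats 4000000

universe u

open CategoryTheory CategoryTheory.Limits AlgebraicGeometry Opposite TopologicalSpace
open Groth.Agent.Coherent Groth.Agent.PicLib Groth.Agent.EulerLib

namespace Groth.Agent.OmegaDual24

variable {k : Type u} [Field k] {X : Scheme.{u}} [X.Over (Spec (CommRingCat.of k))]
  [IsSeparated (X ↘ Spec (CommRingCat.of k))] [IsIntegral X]

/-- A coordinate with a normalised generic derivation is separating. -/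
theorem isSeparable_of_genericDeriv
    [Algebra k X.functionField] {K : Type u} [Field K] [Algebra k K] [Algebra K X.functionField]
    [FiniteDimensional K X.functionField] (halg : algebraMap k X.functionField = LefPen24.stalkConst k (genericPoint X))
    (hcK : ∀ c : k, ∃ a : K, algebraMap K X.functionField a = algebraMap k X.functionField c)
    {U : X.Opens} (hU : IsAffineOpen U) (hη : genericPoint X ∈ U) (t : Γ(X, U))
    (htK : ∃ a : K, algebraMap K X.functionField a = gη U hη t)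
    (D : Derivation k X.functionField X.functionField) (hDt : D (gη U hη t) = 1)
    (ι : Γ(Omega.sheaf (X ↘ Spec (CommRingCat.of k)), U) →+ X.functionField) (hι : Function.Injective ι)
    (hιs : ∀ (r : Γ(X, U)) s, ι (r • s) = gη U hη r * ι s)
    (hιd : ∀ b, ι ((OmegaSh.dOmega (X ↘ Spec (CommRingCat.of k))).app U b) = D (gη U hη b)) :
    Algebra.IsSeparable K X.functionField := by
  classical
  let q := X ↘ Spec (CommRingCat.of k)
  let F := X.functionField
  haveI : Nonempty U := ⟨⟨_, hη⟩⟩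
  haveI : IsFractionRing Γ(X, U) F := functionField_isFractionRing_of_isAffineOpen X U hU
  let e : U ≤ q ⁻¹ᵁ ⊤ := le_top
  letI : Algebra Γ(Spec (CommRingCat.of k), ⊤) Γ(X, U) := (q.appLE ⊤ U e).hom.toAlgebra
  obtain ⟨ψ, hψ⟩ := OmegaLib.exists_omega_sections_equiv q e (isAffineOpen_top _) hU
  letI : Algebra Γ(Spec (CommRingCat.of k), ⊤) F := ((gη U hη).comp (q.appLE ⊤ U e).hom).toAlgebra
  haveI : IsScalarTower Γ(Spec (CommRingCat.of k), ⊤) Γ(X, U) F := IsScalarTower.of_algebraMap_eq' rfl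
  have key : ∀ E : Derivation K F F, ∀ z : F, E z = 0 := fun E => by
    have hE0 : ∀ a, E (gη U hη (q.appLE ⊤ U e a)) = 0 := fun a => by
      obtain ⟨c, hc⟩ := (ConcreteCategory.bijective_of_isIso (Scheme.ΓSpecIso (CommRingCat.of k)).inv).2 a
      obtain ⟨b, hb⟩ := hcK c
      have h : gη U hη (q.appLE ⊤ U e a) = algebraMap K F b := by
        rw [hb, halg, ← LefPen24.germ_gl_eq hη, ← hc]
        rfl
      rw [h, Derivation.map_algebraMap]
    have hmul : ∀ a b : Γ(X, U), E (gη U hη (a * b)) = a • E (gη U hη b) + b • E (gη U hη a) := fun a b => by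
      rw [map_mul, Derivation.leibniz, smul_eq_mul, smul_eq_mul]
      exact congrArg₂ (· + ·) (Algebra.smul_def a _).symm (Algebra.smul_def b _).symm
    let E' : Derivation Γ(Spec (CommRingCat.of k), ⊤) Γ(X, U) F := Derivation.mk'
      { toFun := fun b => E (gη U hη b)
        map_add' := fun a b => by rw [map_add, map_add]
        map_smul' := fun a b => by
          show E (gη U hη (q.appLE ⊤ U e a * b)) = _
          rw [hmul, hE0, smul_zero, add_zero]
          exact IsScalarTower.algebraMap_smul Γ(X, U) a (E (gη U hη b)) }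
      hmul
    let φ : Γ(Omega.sheaf q, U) →ₗ[Γ(X, U)] F := E'.liftKaehlerDifferential.comp ψ.symm.toLinearMap
    have hφ : ∀ b, φ ((OmegaSh.dOmega q).app U b) = E (gη U hη b) := fun b => by
      rw [← hψ b]
      show E'.liftKaehlerDifferential (ψ.symm (ψ _)) = _
      rw [LinearEquiv.symm_apply_apply, Derivation.liftKaehlerDifferential_comp_D]
      rfl
    have hφ0 : ∀ s, φ s = 0 := fun s => by
      obtain ⟨a, b, hb, hab⟩ := IsFractionRing.div_surjective Γ(X, U) (ι s)
      have hb0 : gη U hη b ≠ 0 := (map_ne_zero_iff _ (germ_injective_of_isIntegral X _ hη)).2 (nonZeroDivisors.ne_zero hb)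
      have hbs : b • s = a • (OmegaSh.dOmega q).app U t := hι (by
        rw [hιs, hιs, hιd, hDt, mul_one, ← hab]
        exact mul_div_cancel₀ _ hb0)
      have h := congrArg φ hbs
      obtain ⟨a', ha'⟩ := htK
      rw [map_smul, map_smul, hφ, ← ha', Derivation.map_algebraMap, smul_zero, Algebra.smul_def] at h
      exact (mul_eq_zero.1 h).resolve_left hb0
    have hEB : ∀ b, E (gη U hη b) = 0 := fun b => by rw [← hφ, hφ0]
    intro z
    obtain ⟨a, b, -, rfl⟩ := IsFractionRing.div_surjective Γ(X, U) z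
    rw [Derivation.leibniz_div, show E (algebraMap Γ(X, U) F a) = 0 from hEB a,
      show E (algebraMap Γ(X, U) F b) = 0 from hEB b]
    simp
  haveI : Algebra.FormallyUnramified K F := ⟨by
    refine subsingleton_of_forall_eq 0 fun z => ?_
    by_contra hz
    obtain ⟨ν, hν⟩ : ∃ ν : Ω[F⁄K] →ₗ[F] F, ν z ≠ 0 := by
      by_contra hcon
      push Not at hcon
      exact hz ((Module.forall_dual_apply_eq_zero_iff F z).1 hcon)
    refine hν ?_
    have hz' : z ∈ Submodule.span F (Set.range (KaehlerDifferential.D K F)) :=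
      (KaehlerDifferential.span_range_derivation K F).ge trivial
    clear hν hz
    induction hz' using Submodule.span_induction with
    | mem _ hm =>
      obtain ⟨w, rfl⟩ := hm
      exact key (ν.compDer (KaehlerDifferential.D K F)) w
    | zero => exact map_zero ν
    | add _ _ _ _ h h' => rw [map_add, h, h', add_zero]
    | smul r w _ h => rw [map_smul, h, smul_zero]⟩
  exact Algebra.FormallyUnramified.isSeparable K F

variable [IsProper (X ↘ Spec (CommRingCat.of k))] [Smooth (X ↘ Spec (CommRingCat.of k))]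

/-- `h⁰(Ω) = g` and `h¹(Ω) = 1`. -/
theorem finrank_omega_algClosed [IsAlgClosed k] (hdim : topologicalKrullDim X = 1) :
    Module.finrank k (Coh.HH X (Omega.sheaf (X ↘ Spec (CommRingCat.of k))) 0) = Curv2.genus k X ∧
      Module.finrank k (Coh.HH X (Omega.sheaf (X ↘ Spec (CommRingCat.of k))) 1) = 1 := by
  classical
  let q := X ↘ Spec (CommRingCat.of k)
  let M := Omega.sheaf q
  let d := OmegaSh.dOmega q
  let η := genericPoint X
  let F := X.functionField
  have hd := OmegaLib.isUniversal_dOmega q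
  haveI : Coh.IsQCoh M := OmegaLib.isQCoh_of_isUniversal hd
  haveI : Coh.IsQCoh (Coh.structureModule X) := isQCoh_structureModule
  letI algkF : Algebra k F := (LefPen24.stalkConst k η).toAlgebra
  obtain ⟨f, hfin, hf, hη₀, ht⟩ := exists_finite_map (k := k) hdim
  haveI := hfin
  let U : Fin (1 + 1) → X.Opens := fun i => f ⁻¹ᵁ EmbLib24.chart 1 k i
  let O : X.Opens := f ⁻¹ᵁ P1SC24.overlap k
  have hUa : ∀ i, IsAffineOpen (U i) := fun i => (EmbLib24.isAffineOpen_chart 1 k i).preimage f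
  have hcov : U 0 ⊔ U 1 = ⊤ := by
    show f ⁻¹ᵁ _ ⊔ f ⁻¹ᵁ _ = ⊤
    rw [← Scheme.Hom.preimage_sup, P1SC24.chart_cover]
    rfl
  have hOeq : O = U 0 ⊓ U 1 := by
    show f ⁻¹ᵁ P1SC24.overlap k = _
    rw [P1SC24.overlap_eq]
    rfl
  obtain ⟨D, ι, hDt, hιi, hιs, hιr, hιd⟩ := exists_genericDeriv (isInvertible_omega (k := k) hdim) d hη₀
    (P1SC24.coverRing f 0 Polynomial.X) ht
  let t : F := gη (U 0) hη₀ (P1SC24.coverRing f 0 Polynomial.X)
  have ht0 : t ≠ 0 := fun h => by
    have h1 := hDt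
    rw [show gη (f ⁻¹ᵁ EmbLib24.chart 1 k 0) hη₀ (P1SC24.coverRing f 0 Polynomial.X) = 0 from h, map_zero] at h1
    exact zero_ne_one h1
  have hηO : η ∈ O := by
    show η ∈ f ⁻¹ᵁ P1SC24.overlap k
    rw [P1SC24.preimage_overlap f 0]
    exact (X.mem_basicOpen _ η hη₀).2 (isUnit_iff_ne_zero.2 ht0)
  have hη : ∀ i, η ∈ U i := fun i => P1SC24.le_preimage f i hηO
  let τ : Fin (1 + 1) → F := fun i => gη (U i) (hη i) (P1SC24.coverRing f i Polynomial.X)
  have hττ : τ 0 * τ 1 = 1 := by
    have h := congrArg (gη O hηO) (congrArg (f.app (P1SC24.overlap k)) (P1SC24.toOverlap_X_mul k))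
    rw [map_mul (f.app (P1SC24.overlap k)).hom, map_one (f.app (P1SC24.overlap k)).hom, P1SC24.app_toOverlap,
      P1SC24.app_toOverlap, map_mul, map_one] at h
    refine Eq.trans ?_ h
    exact congrArg₂ (· * ·) (TopCat.Presheaf.germ_res_apply X.presheaf _ η _ _).symm
      (TopCat.Presheaf.germ_res_apply X.presheaf _ η _ _).symm
  have hconst : ∀ (V : X.Opens) (hV : η ∈ V) (c : k), gη V hV (EmbLib24.gl q V c) = algebraMap k F c :=
    fun V hV c => LefPen24.germ_gl_eq hV c
  -- the line inside the function field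
  let K := FractionRing (Polynomial k)
  have htr : Transcendental k (τ 0) := fun halg => by
    haveI : Algebra.IsIntegral k (IntermediateField.adjoin k {τ 0}) :=
      IntermediateField.isAlgebraic_adjoin_simple halg.isIntegral |>.isIntegral
    obtain ⟨c, hc⟩ := (IsAlgClosed.algebraMap_bijective_of_isIntegral (k := k)
      (K := IntermediateField.adjoin k {τ 0})).2 ⟨τ 0, IntermediateField.mem_adjoin_simple_self k _⟩
    have h1 := hDt
    rw [show gη (f ⁻¹ᵁ EmbLib24.chart 1 k 0) hη₀ (P1SC24.coverRing f 0 Polynomial.X) = algebraMap k F c from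
      (congrArg Subtype.val hc).symm, Derivation.map_algebraMap] at h1
    exact zero_ne_one h1
  have hinj : Function.Injective (Polynomial.aeval (R := k) (τ 0)) := transcendental_iff_injective.1 htr
  letI algKF : Algebra K F := (IsFractionRing.lift (K := K) hinj : K →+* F).toAlgebra
  have hlift : ∀ p, algebraMap K F (algebraMap (Polynomial k) K p) = Polynomial.aeval (τ 0) p := fun p =>
    IsFractionRing.lift_algebraMap hinj p
  haveI : IsScalarTower k K F := IsScalarTower.of_algebraMap_eq fun c => by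
    rw [IsScalarTower.algebraMap_apply k (Polynomial k) K, hlift, ← Polynomial.C_eq_algebraMap, Polynomial.aeval_C]
  have hT : algebraMap K F (lineVar (k := k)) = τ 0 := (hlift _).trans (Polynomial.aeval_X _)
  let y : Fin (1 + 1) → K := ![lineVar (k := k), (lineVar (k := k))⁻¹]
  have hy : ∀ i, algebraMap K F (y i) = τ i := fun i => by
    fin_cases i
    · exact hT
    · show algebraMap K F (lineVar (k := k))⁻¹ = τ 1
      rw [map_inv₀, hT]
      exact inv_eq_of_mul_eq_one_right hττ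
  have hy0 : Function.Injective (Polynomial.aeval (R := k) (lineVar (k := k) : K)) := fun p p' h =>
    IsFractionRing.injective (Polynomial k) K (by rw [algebraMap_eq_aeval, algebraMap_eq_aeval]; exact h)
  have hgen0 : ∀ z : K, ∃ p p' : Polynomial k,
      z = Polynomial.aeval (lineVar (k := k) : K) p / Polynomial.aeval (lineVar (k := k) : K) p' := fun z => by
    obtain ⟨a, b, -, rfl⟩ := IsFractionRing.div_surjective (Polynomial k) z
    exact ⟨a, b, by rw [algebraMap_eq_aeval, algebraMap_eq_aeval]⟩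
  have hyi : ∀ i, Function.Injective (Polynomial.aeval (R := k) (y i)) := fun i => by
    fin_cases i
    · exact hy0
    · refine transcendental_iff_injective.1 fun halg => transcendental_iff_injective.2 hy0 ?_
      have h := halg.inv
      change IsAlgebraic k ((lineVar (k := k) : K)⁻¹)⁻¹ at h
      rwa [inv_inv] at h
  have hygen : ∀ i, ∀ z : K, ∃ p p' : Polynomial k, z = Polynomial.aeval (y i) p / Polynomial.aeval (y i) p' := by
    intro i
    fin_cases i
    · exact hgen0
    · intro z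
      refine (IntermediateField.mem_adjoin_simple_iff k z).1 ?_
      have hle : IntermediateField.adjoin k {(lineVar (k := k) : K)} ≤
          IntermediateField.adjoin k {(lineVar (k := k) : K)⁻¹} := by
        rw [IntermediateField.adjoin_simple_le_iff]
        have h := inv_mem (IntermediateField.mem_adjoin_simple_self k ((lineVar (k := k) : K)⁻¹))
        rwa [inv_inv] at h
      exact hle ((IntermediateField.mem_adjoin_simple_iff k z).2 (hgen0 z))
  haveI hne : ∀ i, Nonempty (U i) := fun i => ⟨⟨η, hη i⟩⟩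
  letI algk : ∀ i, Algebra k Γ(X, U i) := fun i => (EmbLib24.gl q (U i)).toAlgebra
  haveI htow : ∀ i, IsScalarTower k Γ(X, U i) F := fun i =>
    IsScalarTower.of_algebraMap_eq fun c => (hconst _ (hη i) c).symm
  haveI hfr : ∀ i, IsFractionRing Γ(X, U i) F := fun i => functionField_isFractionRing_of_isAffineOpen X (U i) (hUa i)
  have hN : Pi1.IsNormalScheme X :=
    Groth.Agent.NeronLib.isNormalScheme_of_smooth q (Groth.Agent.CurveRR24.isNormalScheme_spec_field k)
  haveI hic : ∀ i, IsIntegrallyClosed Γ(X, U i) := fun i =>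
    NormalExtLib.isIntegrallyClosed_sections hN (U i) (hUa i)
  let g : ∀ i, Polynomial k →ₐ[k] Γ(X, U i) := fun i =>
    { P1SC24.coverRing f i with
      commutes' := fun c => by
        show P1SC24.coverRing f i (Polynomial.C c) = EmbLib24.gl q (U i) c
        rw [P1SC24.coverRing, RingHom.comp_apply, P1SC24.chartRing_C, Scheme.Hom.app_eq_appLE,
          EmbLib24.appLE_gl hf] }
  have hgy : ∀ i, algebraMap Γ(X, U i) F (g i Polynomial.X) = algebraMap K F (y i) := fun i => (hy i).symm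
  haveI : FiniteDimensional K F :=
    finiteDimensional_of_model (y 0) (g 0) (P1SC24.finite_coverRing f 0) (hgy 0)
  haveI : Algebra.IsSeparable K F := isSeparable_of_genericDeriv (K := K) rfl
    (fun c => ⟨algebraMap k K c, (IsScalarTower.algebraMap_apply k K F c).symm⟩) (hUa 0) (hη 0)
    (P1SC24.coverRing f 0 Polynomial.X) ⟨lineVar (k := k), hT⟩ D hDt (ι (U 0) (hη 0)) (hιi _ _)
    (hιs _ _) (hιd _ _)
  -- the scalars relating the two normalisations
  let c : Fin (1 + 1) → F := ![1, -(τ 0) ^ 2]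
  have hc0 : ∀ i, c i ≠ 0 := fun i => by
    fin_cases i
    · exact one_ne_zero
    · exact neg_ne_zero.2 (pow_ne_zero 2 ht0)
  have hc : ∀ i, c i * D (τ i) = 1 := fun i => by
    fin_cases i
    · show (1 : F) * D (τ 0) = 1
      rw [one_mul]; exact hDt
    · show -(τ 0) ^ 2 * D (τ 1) = 1
      rw [show τ 1 = (τ 0)⁻¹ from (inv_eq_of_mul_eq_one_right hττ).symm, Derivation.leibniz_inv,
        show D (τ 0) = 1 from hDt, smul_eq_mul, mul_one]
      rw [show (τ 0)⁻¹ ^ 2 = ((τ 0) ^ 2)⁻¹ from inv_pow _ _, neg_mul_neg,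
        mul_inv_cancel₀ (pow_ne_zero 2 (show τ 0 ≠ 0 from ht0))]
  have hside : ∀ i, (∀ ξ : F, (∃ s, ι (U i) (hη i) s = ξ) ↔
        ∀ b : Γ(X, U i), Algebra.trace K F (c i * ξ * gη (U i) (hη i) b) ∈ (Polynomial.aeval (R := k) (y i)).range) ∧
      ∀ ξ : F, (∀ s, Algebra.trace K F (c i * ι (U i) (hη i) s * ξ) ∈ (Polynomial.aeval (R := k) (y i)).range) →
        ∃ b : Γ(X, U i), gη (U i) (hη i) b = ξ := by
    intro i
    have hD' : (c i • D) (algebraMap K F (y i)) = 1 := by rw [hy i]; exact hc i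
    obtain ⟨h1, h2⟩ := side (y i) (hyi i) (hygen i) (g i) (P1SC24.finite_coverRing f i) (hgy i) (c i • D) hD'
    have hrange : ∀ ξ : F, (∃ s, ι (U i) (hη i) s = ξ) ↔
        c i * ξ ∈ Submodule.span Γ(X, U i) (Set.range fun b => (c i • D) (algebraMap Γ(X, U i) F b)) := fun ξ => by
      constructor
      · rintro ⟨s, rfl⟩
        have hs : s ∈ Submodule.span Γ(X, U i) (Set.range (d.app (U i))) :=
          (OmegaLib.span_range_app hd (e := (le_top : U i ≤ q ⁻¹ᵁ ⊤)) (isAffineOpen_top _) (hUa i)).ge trivial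
        induction hs using Submodule.span_induction with
        | mem _ h =>
          obtain ⟨b, rfl⟩ := h
          rw [hιd]
          exact Submodule.subset_span ⟨b, rfl⟩
        | zero => rw [map_zero, mul_zero]; exact zero_mem _
        | add _ _ _ _ h h' => rw [map_add, mul_add]; exact add_mem h h'
        | smul r w _ h =>
          rw [hιs, mul_left_comm]
          exact Submodule.smul_mem _ r h
      · intro h
        suffices hh : ∀ z ∈ Submodule.span Γ(X, U i) (Set.range fun b => (c i • D) (algebraMap Γ(X, U i) F b)),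
            ∃ s, ι (U i) (hη i) s = (c i)⁻¹ * z by
          have h2 := hh _ h
          rwa [inv_mul_cancel_left₀ (hc0 i)] at h2
        intro z hz
        induction hz using Submodule.span_induction with
        | mem _ h =>
          obtain ⟨b, rfl⟩ := h
          refine ⟨d.app (U i) b, ?_⟩
          rw [hιd]
          show _ = (c i)⁻¹ * (c i * D _)
          rw [inv_mul_cancel_left₀ (hc0 i)]
          rfl
        | zero => exact ⟨0, by rw [map_zero, mul_zero]⟩
        | add _ _ _ _ h h' =>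
          obtain ⟨s, hs⟩ := h
          obtain ⟨s', hs'⟩ := h'
          exact ⟨s + s', by rw [map_add, hs, hs', mul_add]⟩
        | smul r w _ h =>
          obtain ⟨s, hs⟩ := h
          refine ⟨r • s, ?_⟩
          rw [hιs, hs, Algebra.smul_def]
          exact mul_left_comm _ _ _
    refine ⟨fun ξ => (hrange ξ).trans (h1 _), fun ξ hξ => h2 ξ fun η' hη' => ?_⟩
    obtain ⟨s, hs⟩ := (hrange ((c i)⁻¹ * η')).2 (by rwa [mul_inv_cancel_left₀ (hc0 i)])
    have h := hξ s
    rwa [hs, mul_inv_cancel_left₀ (hc0 i), mul_comm] at h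
  -- the two embedded modules
  let EO : SecEmb k F (Coh.structureModule X) :=
    { good := fun V => η ∈ V
      map := fun V hV => AddMonoidHom.mk' (fun s => gη V hV (show Γ(X, V) from s)) fun a b => map_add (gη V hV) _ _
      injective := fun V hV => germ_injective_of_isIntegral X η hV
      map_gl := fun V hV x s => by
        show gη V hV (EmbLib24.gl q V x * (show Γ(X, V) from s)) = x • gη V hV (show Γ(X, V) from s)
        rw [map_mul, hconst, Algebra.smul_def]
      map_res := fun V W hV hW h s => TopCat.Presheaf.germ_res_apply X.presheaf (homOfLE h) η hW _ }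
  let EM : SecEmb k F M :=
    { good := fun V => η ∈ V
      map := ι
      injective := hιi
      map_gl := fun V hV x s => by rw [hιs, hconst, Algebra.smul_def]
      map_res := hιr }
  have hηI : η ∈ U 0 ⊓ U 1 := ⟨hη 0, hη 1⟩
  -- shared lattice hypotheses
  have hlat : ∀ {N : X.Modules} [Coh.IsQCoh N] (j : ∀ V : X.Opens, η ∈ V → (Γ(N, V) →+ F)),
      (∀ V hV (r : Γ(X, V)) s, j V hV (r • s) = gη V hV r * j V hV s) →
      (∀ V W hV hW (h : W ≤ V) s, j W hW (resM N h s) = j V hV s) →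
      (∀ m, (∃ s, j (U 0) (hη 0) s = m) → ∃ s, j (U 0) (hη 0) s = τ 0 * m) ∧
      (∀ m, (∃ s, j (U 1) (hη 1) s = m) → ∃ s, j (U 1) (hη 1) s = (τ 0)⁻¹ * m) ∧
      (∀ (n : ℤ) m, (∃ s, j (U 0 ⊓ U 1) hηI s = m) → ∃ s, j (U 0 ⊓ U 1) hηI s = τ 0 ^ n * m) ∧
      (∀ m, (∃ s, j (U 0 ⊓ U 1) hηI s = m) → ∃ n : ℕ, ∃ s, j (U 0) (hη 0) s = τ 0 ^ n * m) ∧
      ∀ m, (∃ s, j (U 0 ⊓ U 1) hηI s = m) → ∃ n : ℕ, ∃ s, j (U 1) (hη 1) s = (τ 0)⁻¹ ^ n * m := by
    intro N _ j hjs hjr
    have hinv : (τ 0)⁻¹ = τ 1 := inv_eq_of_mul_eq_one_right hττ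
    have hg0 : ∀ i, gη (U i) (hη i) (P1SC24.coverRing f i Polynomial.X) = τ i := fun i => rfl
    have hloc : ∀ i m, (∃ s, j (U 0 ⊓ U 1) hηI s = m) → ∃ n : ℕ, ∃ s, j (U i) (hη i) s = τ i ^ n * m := by
      rintro i _ ⟨s, rfl⟩
      let r := P1SC24.coverRing f i Polynomial.X
      have hbe : X.basicOpen r = U 0 ⊓ U 1 := (P1SC24.preimage_overlap f i).symm.trans hOeq
      obtain ⟨n, w, hw⟩ := qcoh_exists_pow_smul (hUa i) N r (resM N hbe.le s)
      refine ⟨n, w, ?_⟩
      have hb : η ∈ X.basicOpen r := hbe.ge hηI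
      rw [← hjr (U i) _ (hη i) hb (X.basicOpen_le r) w, hw, hjs, hjr (U 0 ⊓ U 1) _ hηI hb hbe.le]
      congr 1
      show X.presheaf.germ _ η hb (X.presheaf.map _ (r ^ n)) = _
      rw [TopCat.Presheaf.germ_res_apply, map_pow]
    refine ⟨?_, ?_, fun n => ?_, fun m hm => hloc 0 m hm, fun m hm => ?_⟩
    · rintro _ ⟨s, rfl⟩
      exact ⟨P1SC24.coverRing f 0 Polynomial.X • s, by rw [hjs, hg0]⟩
    · rintro _ ⟨s, rfl⟩
      exact ⟨P1SC24.coverRing f 1 Polynomial.X • s, by rw [hjs, hg0, hinv]⟩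
    · have hpow : ∀ (i : Fin (1 + 1)) (l : ℕ), ∀ m, (∃ s, j (U 0 ⊓ U 1) hηI s = m) →
          ∃ s, j (U 0 ⊓ U 1) hηI s = τ i ^ l * m := by
        rintro i l _ ⟨s, rfl⟩
        have hle : U 0 ⊓ U 1 ≤ U i := hOeq ▸ P1SC24.le_preimage f i
        refine ⟨(X.presheaf.map (homOfLE hle).op (P1SC24.coverRing f i Polynomial.X)) ^ l • s, ?_⟩
        rw [hjs, map_pow]
        congr 2
        exact TopCat.Presheaf.germ_res_apply X.presheaf _ η _ _
      intro m hm
      obtain ⟨l, rfl | rfl⟩ := n.eq_nat_or_neg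
      · rw [zpow_natCast]; exact hpow 0 l m hm
      · rw [zpow_neg, zpow_natCast, ← inv_pow, hinv]; exact hpow 1 l m hm
    · rw [hinv]
      exact hloc 1 m hm
  obtain ⟨hM₁, hM₂, hM₃, hM₄, hM₅⟩ := hlat ι hιs hιr
  obtain ⟨hO₁, hO₂, hO₃, hO₄, hO₅⟩ := hlat (N := Coh.structureModule X) EO.map
    (fun V hV r s => map_mul (gη V hV) r (show Γ(X, V) from s)) EO.map_res
  have hnum : ∀ z : F, ∃ a : Polynomial k, a ≠ 0 ∧ ∃ b : Γ(X, U 0),
      gη (U 0) (hη 0) b = algebraMap K F (algebraMap (Polynomial k) K a) * z := fun z => by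
    obtain ⟨a, b, hb, rfl⟩ := IsFractionRing.div_surjective Γ(X, U 0) z
    letI : Algebra (Polynomial k) Γ(X, U 0) := (g 0).toRingHom.toAlgebra
    haveI : Module.Finite (Polynomial k) Γ(X, U 0) := P1SC24.finite_coverRing f 0
    obtain ⟨p, hp, hp0⟩ := Submodule.exists_mem_ne_zero_of_ne_bot (Ideal.comap_ne_bot_of_integral_mem
      (nonZeroDivisors.ne_zero hb) (Ideal.mem_span_singleton_self b) (Algebra.IsIntegral.isIntegral (R := Polynomial k) b))
    obtain ⟨r, hr⟩ := Ideal.mem_span_singleton'.1 (Ideal.mem_comap.1 hp)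
    refine ⟨p, hp0, r * a, ?_⟩
    have hcomp : gη (U 0) (hη 0) (g 0 p) = Polynomial.aeval (τ 0) p := by
      have : (IsScalarTower.toAlgHom k Γ(X, U 0) F).comp (g 0) = Polynomial.aeval (τ 0) :=
        Polynomial.algHom_ext (by rw [Polynomial.aeval_X]; rfl)
      exact AlgHom.congr_fun this p
    rw [hlift, ← hcomp, show g 0 p = r * b from hr.symm, map_mul, map_mul]
    have hb0 : gη (U 0) (hη 0) b ≠ 0 :=
      (map_ne_zero_iff _ (germ_injective_of_isIntegral X _ (hη 0))).2 (nonZeroDivisors.ne_zero hb)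
    show _ = gη _ _ r * gη _ _ b * (gη _ _ a / gη _ _ b)
    field_simp
  have hOc : ∀ i, U 0 ⊓ U 1 ≤ U i := fun i => hOeq ▸ P1SC24.le_preimage f i
  obtain ⟨N₁, hN₁, ⟨e₁⟩⟩ := exists_equiv_dual (EO.space (U 0) (hη 0)) (EO.space (U 1) (hη 1))
    (EO.space (U 0 ⊓ U 1) hηI) (EO.space_mono (hOc 0) _ _) (EO.space_mono (hOc 1) _ _)
    (by rw [hT]; exact hO₁) (by rw [hT]; exact hO₂) (by rw [hT]; exact hO₃) (by rw [hT]; exact hO₄)
    (by rw [hT]; exact hO₅)
    (fun z => by
      obtain ⟨a, ha, b, hb⟩ := hnum z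
      exact ⟨a, ha, b, hb⟩)
  obtain ⟨N₂, hN₂, ⟨e₂⟩⟩ := exists_equiv_dual (EM.space (U 0) (hη 0)) (EM.space (U 1) (hη 1))
    (EM.space (U 0 ⊓ U 1) hηI) (EM.space_mono (hOc 0) _ _) (EM.space_mono (hOc 1) _ _)
    (by rw [hT]; exact hM₁) (by rw [hT]; exact hM₂) (by rw [hT]; exact hM₃) (by rw [hT]; exact hM₄)
    (by rw [hT]; exact hM₅)
    (fun z => by
      obtain ⟨a, ha, b, hb⟩ := hnum z
      refine ⟨a, ha, b • d.app (U 0) (P1SC24.coverRing f 0 Polynomial.X), ?_⟩
      show ι _ _ _ = _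
      rw [hιs, hιd, hb, show D (gη (U 0) (hη 0) (P1SC24.coverRing f 0 Polynomial.X)) = 1 from hDt, mul_one])
  have htr2 : ∀ z : F, Algebra.trace K F (c 1 * z) = -((lineVar (k := k) : K) ^ 2 * Algebra.trace K F z) := fun z => by
    rw [show c 1 * z = algebraMap K F (-(lineVar (k := k) : K) ^ 2) * z by
      rw [map_neg, map_pow, hT]; rfl, ← Algebra.smul_def, map_smul, smul_eq_mul, neg_mul]
  have hR0 : ∀ z : K, z ∈ (algebraMap (Polynomial k) K).range ↔ z ∈ (Polynomial.aeval (R := k) (y 0)).range :=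
    fun z => ⟨fun ⟨p, hp⟩ => ⟨p, (algebraMap_eq_aeval p).symm.trans hp⟩,
      fun ⟨p, hp⟩ => ⟨p, (algebraMap_eq_aeval p).trans hp⟩⟩
  have hc00 : ∀ z : F, c 0 * z = z := one_mul
  have hN₁' : N₁ = EM.space (U 0) (hη 0) ⊓ EM.space (U 1) (hη 1) := by
    ext ξ
    rw [hN₁, Submodule.mem_inf, SecEmb.mem_space, SecEmb.mem_space]
    refine and_congr ?_ ?_
    · show _ ↔ ∃ s, ι (U 0) (hη 0) s = ξ
      rw [(hside 0).1]
      simp only [hc00, ← hR0]
      exact ⟨fun h b => h _ ⟨b, rfl⟩, fun h m ⟨b, hb⟩ => hb ▸ h b⟩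
    · show _ ↔ ∃ s, ι (U 1) (hη 1) s = ξ
      rw [(hside 1).1]
      refine ⟨fun h b => ?_, fun h m ⟨b, hb⟩ => ?_⟩
      · rw [mul_assoc, htr2, neg_mem_iff]; exact h _ ⟨b, rfl⟩
      · have h' := h b
        rw [mul_assoc, htr2, neg_mem_iff] at h'
        exact hb ▸ h'
  have hN₂' : N₂ = EO.space (U 0) (hη 0) ⊓ EO.space (U 1) (hη 1) := by
    ext ξ
    rw [hN₂, Submodule.mem_inf, SecEmb.mem_space, SecEmb.mem_space]
    refine and_congr ⟨fun h => (hside 0).2 ξ fun s => ?_, fun ⟨b, hb⟩ m ⟨s, hs⟩ => ?_⟩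
      ⟨fun h => (hside 1).2 ξ fun s => ?_, fun ⟨b, hb⟩ m ⟨s, hs⟩ => ?_⟩
    · rw [hc00, mul_comm, ← hR0]; exact h _ ⟨s, rfl⟩
    · have h' := ((hside 0).1 m).1 ⟨s, hs⟩ b
      rw [hc00, ← hR0, mul_comm] at h'
      rw [← hb]
      exact h'
    · rw [mul_assoc, htr2, neg_mem_iff, mul_comm _ ξ]; exact h _ ⟨s, rfl⟩
    · have h' := ((hside 1).1 m).1 ⟨s, hs⟩ b
      rw [mul_assoc, htr2, neg_mem_iff, mul_comm m] at h'
      rw [← hb]
      exact h'
  have h1O := EO.finrank_h1 (hUa 0) (hUa 1) hcov (hη 0) (hη 1) hηI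
  have h1M := EM.finrank_h1 (hUa 0) (hUa 1) hcov (hη 0) (hη 1) hηI
  have h0O := EO.finrank_h0 hcov (hη 0) (hη 1) (trivial : η ∈ (⊤ : X.Opens)) hηI
  have h0M := EM.finrank_h0 hcov (hη 0) (hη 1) (trivial : η ∈ (⊤ : X.Opens)) hηI
  have hfd : ∀ {N : X.Modules}, Coh.IsCoh N → ∀ i, Module.Finite k (Coh.HH X N i) := fun hN i =>
    CurveRR24.finite_HH_of_isCoh k hN i
  constructor
  · rw [h0M, ← hN₁', e₁.finrank_eq, Subspace.dual_finrank_eq, ← h1O]
    rfl
  · rw [h1M, ← Subspace.dual_finrank_eq, ← e₂.finrank_eq, hN₂', ← h0O]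
    exact CurveRR24.h0_structure k

end Groth.Agent.OmegaDual24
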