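import Groth.Agent.Coherent.FlatBaseChange
import Groth.Agent.Coherent.SecBridge
import Groth.Agent.Coherent.AffineVanishing
import Groth.Agent.EmbLib24.Coord
import Groth.Agent.EulerLib.Additive

/-!
# Two affine opens: `H¹` of a quasi-coherent module by cocycles
-/

set_option autoImplicit false
set_option linter.style.haveILetI false
set_option backward.isDefEq.respectTransparency.types false
set_option maxHeartbeats 1000000

universe u

open CategoryTheory CategoryTheory.Limits AlgebraicGeometry Opposite TopologicalSpace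
open Groth.Agent.Coherent Groth.Agent.EulerLib Groth.Agent.PicLib

namespace Groth.Agent.OmegaDual24

variable {k : Type u} [Field k] {X : Scheme.{u}}

/-- Degree zero cohomology is sections. -/
noncomputable def secM (φ : k →+* Γ(X, ⊤)) (M : X.Modules) (U : X.Opens) : HA φ M U 0 ≃+ Γ(M, U) :=
  secH (X := X.toTopCat) (Coh.toAb M) U

theorem secM_res (φ : k →+* Γ(X, ⊤)) (M : X.Modules) {U V : X.Opens} (h : U ≤ V) (x : HA φ M V 0) :
    secM φ M U (resA φ M h 0 x) = resM M h (secM φ M V x) :=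
  secH_resH (X := X.toTopCat) (F := Coh.toAb M) h x

theorem secM_smul (φ : k →+* Γ(X, ⊤)) (M : X.Modules) (U : X.Opens) (c : k) (x : HA φ M U 0) :
    secM φ M U (c • x) = X.presheaf.map (homOfLE (le_top : U ≤ ⊤)).op (φ c) • secM φ M U x :=
  (secH_postH (X := X.toTopCat) (smulEndAb M (φ c)) U x).trans (smulEndAb_app M (φ c) U _)

/-- With affine `U ∪ V = X`, `H¹(X, M)` is sections on `U ∩ V` modulo those of `U` and `V`. -/
theorem exists_cocycle_mod [X.Over (Spec (CommRingCat.of k))] (M : X.Modules) [Coh.IsQCoh M]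
    {U V : X.Opens} (hU : IsAffineOpen U) (hV : IsAffineOpen V) (h : U ⊔ V = ⊤) :
    ∃ δ : Γ(M, U ⊓ V) →+ Coh.HH X M 1, Function.Surjective δ ∧
      (∀ (c : k) w, δ (EmbLib24.gl (X ↘ Spec (CommRingCat.of k)) (U ⊓ V) c • w) = c • δ w) ∧
      ∀ w, δ w = 0 ↔ ∃ a b, w = resM M (inf_le_left : U ⊓ V ≤ U) a - resM M (inf_le_right : U ⊓ V ≤ V) b := by
  let φ := baseHom k X
  let r := resA φ M h.ge 1
  have hr : Function.Bijective r := by
    refine Function.bijective_iff_has_inverse.2 ⟨resA φ M h.le 1, fun x => ?_, fun x => ?_⟩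
    · exact (resH_resH (X := X.toTopCat) 1 h.le h.ge x).trans (resH_refl (X := X.toTopCat) 1 _ x)
    · exact (resH_resH (X := X.toTopCat) 1 h.ge h.le x).trans (resH_refl (X := X.toTopCat) 1 _ x)
  let D : HA φ M (U ⊓ V) 0 →ₗ[k] Coh.HH X M 1 :=
    (HHBaseEquiv k M 1).symm.toLinearMap ∘ₗ r ∘ₗ mvA φ M U V 0
  refine ⟨D.toAddMonoidHom.comp (secM φ M (U ⊓ V)).symm.toAddMonoidHom, ?_, fun c w => ?_, fun w => ?_⟩
  · refine ((HHBaseEquiv k M 1).symm.surjective.comp (hr.2.comp ?_)).comp (secM φ M (U ⊓ V)).symm.surjective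
    intro x
    haveI := subsingleton_H'_qcoh M hU 0
    haveI := subsingleton_H'_qcoh M hV 0
    exact (exact_mvA_mvRes φ M U V 0 x).1 (Prod.ext (Subsingleton.elim (α := Sheaf.H' (Coh.toAb M) 1 U) _ _)
      (Subsingleton.elim (α := Sheaf.H' (Coh.toAb M) 1 V) _ _))
  · show D ((secM φ M (U ⊓ V)).symm _) = c • D ((secM φ M (U ⊓ V)).symm w)
    rw [← map_smul]
    refine congrArg D ((secM φ M (U ⊓ V)).injective ?_)
    rw [AddEquiv.apply_symm_apply, secM_smul, AddEquiv.apply_symm_apply]
    try rfl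
  · show D ((secM φ M (U ⊓ V)).symm w) = 0 ↔ _
    simp only [D, LinearMap.comp_apply, LinearEquiv.coe_coe, map_eq_zero_iff _ (HHBaseEquiv k M 1).symm.injective,
      map_eq_zero_iff _ hr.1]
    constructor
    · intro hw
      obtain ⟨a, b, hab⟩ := exists_of_deltaH_eq_zero (X := X.toTopCat) hw
      refine ⟨secM φ M U a, secM φ M V b, ?_⟩
      rw [← secM_res φ M inf_le_left a, ← secM_res φ M inf_le_right b, ← map_sub]
      exact ((secM φ M (U ⊓ V)).apply_symm_apply w).symm.trans (congrArg (secM φ M (U ⊓ V)) hab.symm)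
    · rintro ⟨a, b, rfl⟩
      have e : (secM φ M (U ⊓ V)).symm (resM M (inf_le_left : U ⊓ V ≤ U) a - resM M (inf_le_right : U ⊓ V ≤ V) b) =
          mvDiff φ M U V 0 ((secM φ M U).symm a, (secM φ M V).symm b) := by
        refine (secM φ M (U ⊓ V)).injective ?_
        rw [AddEquiv.apply_symm_apply, mvDiff, LinearMap.coprod_apply, LinearMap.neg_apply,
          ← sub_eq_add_neg, map_sub, secM_res, secM_res, AddEquiv.apply_symm_apply, AddEquiv.apply_symm_apply]
      rw [e]
      exact LinearMap.congr_fun (mvA_comp_mvDiff φ M U V 0) _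

end Groth.Agent.OmegaDual24
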