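import Groth.Agent.OmegaDual24.TraceDual
import Mathlib.FieldTheory.IntermediateField.Adjoin.Basic
import Mathlib.RingTheory.Unramified.Field

/-!
# Trace duality on one side of a map to the line
-/

set_option autoImplicit false
set_option linter.style.haveILetI false
set_option linter.unusedSectionVars false
set_option backward.isDefEq.respectTransparency.types false
set_option maxHeartbeats 1000000

universe u v w x

open Polynomial

namespace Groth.Agent.OmegaDual24

variable {k : Type u} [Field k] {K : Type w} [Field K] [Algebra k K] {L : Type v} [Field L] [Algebra k L]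
  [Algebra K L] [IsScalarTower k K L]
  {R : Type x} [CommRing R] [IsDomain R] [Algebra k R] [Algebra R L] [IsScalarTower k R L] [IsFractionRing R L]

/-- A generator of a purely transcendental extension makes it the fraction field of the polynomials. -/
theorem isFractionRing_aeval (y : K) (hy : Function.Injective (aeval (R := k) y))
    (hgen : ∀ z : K, ∃ p q : k[X], z = aeval y p / aeval y q) :
    @IsFractionRing k[X] _ K _ (aeval y).toRingHom.toAlgebra := by
  letI := (aeval (R := k) y).toRingHom.toAlgebra
  haveI : FaithfulSMul k[X] K := (faithfulSMul_iff_algebraMap_injective k[X] K).2 hy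
  exact IsFractionRing.of_field k[X] K hgen

/-- A finite birational model makes the extension finite. -/
theorem finiteDimensional_of_model (y : K) (g : k[X] →ₐ[k] R) (hg : g.toRingHom.Finite)
    (hgy : algebraMap R L (g X) = algebraMap K L y) : FiniteDimensional K L := by
  classical
  have hc : ∀ p, algebraMap R L (g p) = algebraMap K L (aeval y p) := fun p => by
    have : (IsScalarTower.toAlgHom k R L).comp g = (IsScalarTower.toAlgHom k K L).comp (aeval y) :=
      Polynomial.algHom_ext (by simpa using hgy)
    exact AlgHom.congr_fun this p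
  obtain ⟨s, hs⟩ := (show letI := g.toRingHom.toAlgebra; Module.Finite k[X] R from hg).fg_top
  let S := Algebra.adjoin K (Set.range (algebraMap R L))
  have hS : Subalgebra.toSubmodule S = Submodule.span K (algebraMap R L '' s) := by
    rw [Algebra.adjoin_eq_span]
    refine le_antisymm (Submodule.span_le.2 ?_) (Submodule.span_mono ?_)
    · rw [show (Submonoid.closure (Set.range (algebraMap R L)) : Set L) = Set.range (algebraMap R L) from
        congrArg SetLike.coe (Submonoid.closure_eq (MonoidHom.mrange (algebraMap R L).toMonoidHom))]
      rintro _ ⟨b, rfl⟩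
      letI := g.toRingHom.toAlgebra
      have hb : b ∈ Submodule.span k[X] (s : Set R) := hs.ge trivial
      induction hb using Submodule.span_induction with
      | mem b hb => exact Submodule.subset_span ⟨b, hb, rfl⟩
      | zero => rw [map_zero]; exact zero_mem _
      | add _ _ _ _ h h' => rw [map_add]; exact add_mem h h'
      | smul p b _ h =>
        rw [Algebra.smul_def, map_mul, show algebraMap R L (algebraMap k[X] R p) = algebraMap K L (aeval y p) from hc p,
          ← Algebra.smul_def]
        exact Submodule.smul_mem _ _ h
    · exact (Set.image_subset_range _ _).trans Submonoid.subset_closure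
  haveI : Module.Finite K S := by
    have : Module.Finite K (Subalgebra.toSubmodule S) := by
      rw [hS]
      exact Module.Finite.span_of_finite K (s.finite_toSet.image _)
    exact this
  have htop : S = ⊤ := eq_top_iff.2 fun z _ => by
    obtain ⟨a, b, -, rfl⟩ := IsFractionRing.div_surjective R z
    rw [div_eq_mul_inv]
    refine mul_mem (Algebra.subset_adjoin ⟨a, rfl⟩) ?_
    exact Subalgebra.inv_mem_of_algebraic (x := (⟨algebraMap R L b, Algebra.subset_adjoin ⟨b, rfl⟩⟩ : S)) _
      ((Algebra.IsIntegral.isIntegral (R := K) (⟨algebraMap R L b, Algebra.subset_adjoin ⟨b, rfl⟩⟩ : S)).isAlgebraic.algebraMap (A := L))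
  exact Module.Finite.equiv ((Subalgebra.equivOfEq S ⊤ htop).trans Subalgebra.topEquiv).toLinearEquiv

variable [IsAlgClosed k] [FiniteDimensional K L] [Algebra.IsSeparable K L] [IsIntegrallyClosed R]

/-- On a finite normal model the differentials are the trace dual, and doubly dual is itself. -/
theorem side (y : K) (hy : Function.Injective (aeval (R := k) y))
    (hgen : ∀ z : K, ∃ p q : k[X], z = aeval y p / aeval y q) (g : k[X] →ₐ[k] R) (hg : g.toRingHom.Finite)
    (hgy : algebraMap R L (g X) = algebraMap K L y) (D : Derivation k L L) (hD : D (algebraMap K L y) = 1) :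
    (∀ ξ : L, ξ ∈ Submodule.span R (Set.range fun b : R => D (algebraMap R L b)) ↔
      ∀ b : R, Algebra.trace K L (ξ * algebraMap R L b) ∈ (aeval (R := k) y).range) ∧
    ∀ ξ : L, (∀ η ∈ Submodule.span R (Set.range fun b : R => D (algebraMap R L b)),
      Algebra.trace K L (ξ * η) ∈ (aeval (R := k) y).range) → ξ ∈ Set.range (algebraMap R L) := by
  letI a1 : Algebra k[X] K := (aeval (R := k) y).toRingHom.toAlgebra
  letI a2 : Algebra k[X] L := ((algebraMap K L).comp (aeval (R := k) y).toRingHom).toAlgebra
  haveI : IsFractionRing k[X] K := isFractionRing_aeval y hy hgen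
  haveI : IsScalarTower k[X] K L := IsScalarTower.of_algebraMap_eq' rfl
  haveI : IsScalarTower k k[X] L := IsScalarTower.of_algebraMap_eq fun c => by
    show algebraMap k L c = algebraMap K L (aeval y (C c))
    rw [aeval_C, ← IsScalarTower.algebraMap_apply]
  haveI : IsScalarTower k k[X] K := IsScalarTower.of_algebraMap_eq fun c => by
    show algebraMap k K c = aeval y (C c)
    rw [aeval_C]
  have hc : ∀ p, algebraMap R L (g p) = algebraMap k[X] L p := fun p => by
    have : (IsScalarTower.toAlgHom k R L).comp g = (IsScalarTower.toAlgHom k K L).comp (aeval y) :=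
      Polynomial.algHom_ext (by simpa using hgy)
    exact AlgHom.congr_fun this p
  letI : Algebra k[X] R := g.toRingHom.toAlgebra
  haveI : Module.Finite k[X] R := hg
  haveI : IsScalarTower k[X] R L := IsScalarTower.of_algebraMap_eq fun p => (hc p).symm
  have hB : ∀ z : L, z ∈ integralClosure k[X] L ↔ z ∈ Set.range (algebraMap R L) := fun z => by
    constructor
    · intro hz
      exact IsIntegrallyClosed.isIntegral_iff.1 (IsIntegral.tower_top (A := R) hz)
    · rintro ⟨b, rfl⟩
      exact (Algebra.IsIntegral.isIntegral b).map (IsScalarTower.toAlgHom k[X] R L)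
  have hrange : ∀ z : K, z ∈ (algebraMap k[X] K).range ↔ z ∈ (aeval (R := k) y).range := fun z => Iff.rfl
  have hspan : ∀ ξ : L, ξ ∈ Submodule.span R (Set.range fun b : R => D (algebraMap R L b)) ↔
      ξ ∈ Submodule.span (integralClosure k[X] L)
        (Set.range fun b : integralClosure k[X] L => D (b : L)) := fun ξ => by
    constructor
    · intro h
      induction h using Submodule.span_induction with
      | mem _ hm =>
        obtain ⟨b, rfl⟩ := hm
        exact Submodule.subset_span ⟨⟨_, (hB _).2 ⟨b, rfl⟩⟩, rfl⟩
      | zero => exact zero_mem _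
      | add _ _ _ _ h h' => exact add_mem h h'
      | smul r w _ h =>
        rw [Algebra.smul_def]
        exact Submodule.smul_mem _ (⟨_, (hB _).2 ⟨r, rfl⟩⟩ : integralClosure k[X] L) h
    · intro h
      induction h using Submodule.span_induction with
      | mem _ hm =>
        obtain ⟨⟨b, hb⟩, rfl⟩ := hm
        obtain ⟨b', rfl⟩ := (hB b).1 hb
        exact Submodule.subset_span ⟨b', rfl⟩
      | zero => exact zero_mem _
      | add _ _ _ _ h h' => exact add_mem h h'
      | smul r w _ h =>
        obtain ⟨r', hr'⟩ := (hB r).1 r.2
        rw [show r • w = r' • w by rw [Algebra.smul_def r', hr']; rfl]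
        exact Submodule.smul_mem _ r' h
  have hD' : D (algebraMap k[X] L X) = 1 := by
    rw [show algebraMap k[X] L X = algebraMap K L (aeval y X) from rfl, aeval_X]; exact hD
  refine ⟨fun ξ => ?_, fun ξ h => ?_⟩
  · rw [hspan, mem_span_deriv_iff (K := K) D hD']
    refine ⟨fun h b => (hrange _).1 (h ⟨_, (hB _).2 ⟨b, rfl⟩⟩), fun h b => ?_⟩
    obtain ⟨b', hb'⟩ := (hB b).1 b.2
    exact (hrange _).2 (hb' ▸ h b')
  · refine (hB ξ).1 (trace_dual_dual (K := K) ξ fun η hη => ?_)
    exact (hrange _).2 (h η ((hspan η).2 ((mem_span_deriv_iff (K := K) D hD' η).2 hη)))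

end Groth.Agent.OmegaDual24
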