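import Mathlib.RingTheory.DedekindDomain.Different
import Mathlib.RingTheory.DedekindDomain.IntegralClosure
import Mathlib.RingTheory.DedekindDomain.Ideal.Lemmas
import Mathlib.RingTheory.Jacobson.Ring
import Mathlib.RingTheory.Polynomial.Basic
import Mathlib.Algebra.Polynomial.Taylor
import Mathlib.Algebra.DualNumber
import Mathlib.FieldTheory.IsAlgClosed.Basic

/-!
# Differentials are the inverse different

For a finite separable extension `L` of `k(t)`, `k` algebraically closed, with `B` the integral closure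
of `k[t]` and `D` a derivation of `L` with `D t = 1`, the `B`-span of `D B` is the trace dual of `B`.
-/

set_option autoImplicit false
set_option linter.style.haveILetI false
set_option backward.isDefEq.respectTransparency.types false
set_option maxHeartbeats 4000000

universe u v w

open Polynomial
open scoped Pointwise

namespace Groth.Agent.OmegaDual24

/-- Nakayama: a subalgebra reaching everything modulo an ideal agrees with everything nearby. -/
theorem exists_conductor_element {A : Type u} {R : Type v} [CommRing A] [CommRing R] [Algebra A R]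
    [Module.Finite A R] (C : Subalgebra A R) (I : Ideal C)
    (h : ∀ b : R, ∃ c : C, b - c ∈ I.map (algebraMap C R)) :
    ∃ r : C, r - 1 ∈ I ∧ ∀ b : R, (r : R) * b ∈ C := by
  haveI : Module.Finite C R := Module.Finite.of_restrictScalars_finite A C R
  let N : Submodule C R := (Algebra.linearMap C R).range
  obtain ⟨r, hr, hrN⟩ := Submodule.exists_sub_one_mem_and_smul_eq_zero_of_fg_of_le_smul I (⊤ : Submodule C (R ⧸ N))
    Module.Finite.fg_top (by
      intro n _
      obtain ⟨b, rfl⟩ := N.mkQ_surjective n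
      obtain ⟨c, hc⟩ := h b
      have hb : b - c ∈ I • (⊤ : Submodule C R) := by rwa [Ideal.smul_top_eq_map, Submodule.restrictScalars_mem]
      have h1 := Submodule.mem_map_of_mem (f := N.mkQ) hb
      rw [Submodule.map_smul'', Submodule.map_top, Submodule.range_mkQ, map_sub] at h1
      rwa [show N.mkQ (c : R) = 0 from (Submodule.Quotient.mk_eq_zero _).2 ⟨c, rfl⟩, sub_zero] at h1)
  refine ⟨r, hr, fun b => ?_⟩
  have h := hrN (N.mkQ b) trivial
  rw [← map_smul] at h
  obtain ⟨c, hc⟩ := (Submodule.Quotient.mk_eq_zero _).1 h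
  rw [show (r : R) * b = r • b from rfl, ← hc]
  exact c.2

variable {k : Type u} [Field k] {L : Type v} [Field L] [Algebra k L] [Algebra k[X] L]
  [IsScalarTower k k[X] L]

local notation "B" => integralClosure k[X] L

/-- A derivation of `L` with `D t = 1` differentiates polynomials in `t`. -/
theorem deriv_algebraMap (D : Derivation k L L) (hD : D (algebraMap k[X] L X) = 1) (p : k[X]) :
    D (algebraMap k[X] L p) = algebraMap k[X] L (derivative p) := by
  induction p using Polynomial.induction_on with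
  | C a => rw [derivative_C, map_zero, Polynomial.C_eq_algebraMap, ← IsScalarTower.algebraMap_apply k k[X] L,
      Derivation.map_algebraMap]
  | add p q hp hq => rw [map_add, map_add, hp, hq, derivative_add, map_add]
  | monomial n a _ =>
    simp only [derivative_C_mul, derivative_X_pow, map_mul (algebraMap k[X] L), map_pow (algebraMap k[X] L)]
    rw [
      Derivation.leibniz, Derivation.leibniz_pow, hD, Polynomial.C_eq_algebraMap,
      ← IsScalarTower.algebraMap_apply k k[X] L, Derivation.map_algebraMap]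
    simp only [smul_eq_mul, nsmul_eq_mul, Nat.add_sub_cancel, map_natCast, mul_zero, add_zero, mul_one]

/-- The partial derivative with respect to the coefficients. -/
noncomputable def coeffDeriv (F : k[X][X]) : k[X][X] := F.sum fun n a => monomial n (derivative a)

theorem coeffDeriv_monomial (n : ℕ) (a : k[X]) : coeffDeriv (monomial n a) = monomial n (derivative a) :=
  Polynomial.sum_monomial_index _ _ (by simp)

theorem coeffDeriv_add (F G : k[X][X]) : coeffDeriv (F + G) = coeffDeriv F + coeffDeriv G :=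
  Polynomial.sum_add_index _ _ _ (by simp) (by simp)

/-- The chain rule. -/
theorem deriv_aeval (D : Derivation k L L) (hD : D (algebraMap k[X] L X) = 1) (y : L) (F : k[X][X]) :
    D (aeval y F) = aeval y (coeffDeriv F) + aeval y (derivative F) * D y := by
  induction F using Polynomial.induction_on' with
  | add p q hp hq => rw [map_add, map_add, hp, hq, coeffDeriv_add, map_add, map_add, map_add]; ring
  | monomial n a =>
    rw [coeffDeriv_monomial, aeval_monomial, aeval_monomial, derivative_monomial, aeval_monomial,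
      Derivation.leibniz, deriv_algebraMap D hD, Derivation.leibniz_pow, smul_eq_mul, smul_eq_mul, map_mul,
      map_natCast, nsmul_eq_mul, smul_eq_mul]
    ring

/-- The first order expansion of `F` at `(a, c)` in the direction of the coefficients. -/
theorem eval₂_eps (a c : k) (F : k[X][X]) :
    F.eval₂ (aeval (algebraMap k (DualNumber k) a + DualNumber.eps)).toRingHom (algebraMap k (DualNumber k) c) =
      algebraMap k (DualNumber k) ((F.map (evalRingHom a)).eval c) +
        algebraMap k (DualNumber k) (((coeffDeriv F).map (evalRingHom a)).eval c) * DualNumber.eps := by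
  induction F using Polynomial.induction_on' with
  | add p q hp hq =>
    rw [eval₂_add, hp, hq, coeffDeriv_add, Polynomial.map_add, Polynomial.map_add, eval_add, eval_add, map_add,
      map_add]
    ring
  | monomial n b =>
    rw [coeffDeriv_monomial, eval₂_monomial, map_monomial, map_monomial, eval_monomial, eval_monomial,
      map_mul, map_mul, map_pow, AlgHom.toRingHom_eq_coe, RingHom.coe_coe,
      aeval_add_of_sq_eq_zero _ _ _ (by rw [sq, DualNumber.eps_mul_eps]), aeval_algebraMap_apply_eq_algebraMap_eval,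
      aeval_algebraMap_apply_eq_algebraMap_eval]
    simp only [coe_evalRingHom]
    ring

/-- The coefficient derivative of the minimal polynomial of a local generator is a unit there. -/
theorem coeffDeriv_notMem {R : Type v} [CommRing R] [IsDedekindDomain R] [Algebra k[X] R]
    [Algebra.IsIntegral k[X] R] [Module.IsTorsionFree k[X] R] (P : Ideal R) [P.IsMaximal] (ρ : R →+* k)
    (hρ : ∀ b, ρ b = 0 ↔ b ∈ P) (hρC : ∀ z, ρ (algebraMap k[X] R (C z)) = z) {x s u : R} (hs : s ∉ P)
    (hsC : s ∈ Algebra.adjoin k[X] {x}) (hsb : ∀ b, s * b ∈ Algebra.adjoin k[X] {x})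
    (hxu : x - 1 - u ∈ P ^ 2) (huP : u ∈ P) (huP2 : u ∉ P ^ 2) (hP0 : P ≠ ⊥) :
    aeval x (coeffDeriv (minpoly k[X] x)) ∉ P := by
  classical
  intro hg
  have hint : IsIntegral k[X] x := Algebra.IsIntegral.isIntegral x
  let a := ρ (algebraMap k[X] R X)
  let c := ρ x
  have hev : ρ.comp (algebraMap k[X] R) = evalRingHom a :=
    Polynomial.ringHom_ext (fun z => (hρC z).trans (by simp)) (by simp [a])
  have hres : ∀ F : k[X][X], ρ (aeval x F) = (F.map (evalRingHom a)).eval c := fun F => by
    rw [eval_map, ← hev, aeval_def]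
    exact Polynomial.hom_eval₂ F (algebraMap k[X] R) ρ x
  let φ : k[X][X] →+* DualNumber k :=
    eval₂RingHom (aeval (algebraMap k (DualNumber k) a + DualNumber.eps)).toRingHom (algebraMap k (DualNumber k) c)
  have hφf : φ (minpoly k[X] x) = 0 := by
    refine (eval₂_eps a c _).trans ?_
    rw [← hres, ← hres, minpoly.aeval, map_zero, (hρ _).2 hg]
    simp
  let π : k[X][X] →+* Algebra.adjoin k[X] {x} :=
    (aeval (⟨x, Algebra.self_mem_adjoin_singleton _ x⟩ : Algebra.adjoin k[X] {x})).toRingHom
  have hπv : ∀ F, ((π F : Algebra.adjoin k[X] {x}) : R) = aeval x F := fun F =>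
    (aeval_subalgebra_coe F _ _).trans rfl
  have hπ : Function.Surjective π := fun z => by
    obtain ⟨F, hF⟩ := (SetLike.ext_iff.1 (Algebra.adjoin_singleton_eq_range_aeval k[X] x) z.1).1 z.2
    exact ⟨F, Subtype.ext ((hπv F).trans hF)⟩
  have hker : RingHom.ker π ≤ RingHom.ker φ := fun F hF => by
    have h : aeval x F = 0 := by rw [← hπv, RingHom.mem_ker.1 hF]; rfl
    obtain ⟨G, rfl⟩ := minpoly.isIntegrallyClosed_dvd hint h
    rw [RingHom.mem_ker, map_mul, hφf, zero_mul]
  let Φ := RingHom.liftOfSurjective π hπ ⟨φ, hker⟩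
  have hΦ : ∀ F, Φ (π F) = φ F := fun F => RingHom.liftOfRightInverse_comp_apply _ _ _ _ _
  have hfst : ∀ z, TrivSqZeroExt.fst (Φ z) = ρ (z : R) := fun z => by
    obtain ⟨F, rfl⟩ := hπ z
    rw [hΦ, hπv, hres, show φ F = _ from eval₂_eps a c F]
    simp [TrivSqZeroExt.algebraMap_eq_inl]
  let σ := Φ ⟨s, hsC⟩
  have hσ : IsUnit σ := TrivSqZeroExt.isUnit_iff_isUnit_fst.2 (by
    rw [hfst]; exact isUnit_iff_ne_zero.2 fun h => hs ((hρ s).1 h))
  obtain ⟨σ', hσ'⟩ := hσ.exists_right_inv
  let Ψ : R → DualNumber k := fun b => Φ ⟨s * b, hsb b⟩ * σ'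
  have hΨC : ∀ z : Algebra.adjoin k[X] {x}, Ψ z = Φ z := fun z => by
    show Φ (⟨s, hsC⟩ * z) * σ' = Φ z
    rw [map_mul, mul_right_comm, hσ', one_mul]
  have hadd : ∀ b b', Ψ (b + b') = Ψ b + Ψ b' := fun b b' => by
    simp only [Ψ]
    rw [← add_mul, ← map_add]
    congr 2
    exact Subtype.ext (mul_add _ _ _)
  have hmul : ∀ b b', Ψ (b * b') = Ψ b * Ψ b' := fun b b' => by
    simp only [Ψ]
    have h : Φ ⟨s, hsC⟩ * Φ ⟨s * (b * b'), hsb _⟩ = Φ ⟨s * b, hsb b⟩ * Φ ⟨s * b', hsb b'⟩ := by
      rw [← map_mul, ← map_mul]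
      exact congrArg Φ (Subtype.ext (show s * (s * (b * b')) = s * b * (s * b') by ring))
    linear_combination σ' * σ' * h - (Φ ⟨s * (b * b'), hsb _⟩ * σ') * hσ'
  have hρΨ : ∀ b, TrivSqZeroExt.fst (Ψ b) = ρ b := fun b => by
    have h := congrArg TrivSqZeroExt.fst hσ'
    rw [TrivSqZeroExt.fst_mul, TrivSqZeroExt.fst_one, hfst] at h
    simp only [Ψ, TrivSqZeroExt.fst_mul, hfst, map_mul]
    linear_combination ρ b * h
  let E : R → k := fun b => TrivSqZeroExt.snd (Ψ b)
  have hEadd : ∀ b b', E (b + b') = E b + E b' := fun b b' => by simp [E, hadd]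
  have hEmul : ∀ b b', E (b * b') = ρ b * E b' + ρ b' * E b := fun b b' => by
    simp only [E, hmul, TrivSqZeroExt.snd_mul, hρΨ, smul_eq_mul, MulOpposite.smul_eq_mul_unop, MulOpposite.unop_op]
    ring
  have hE0 : ∀ b ∈ P ^ 2, E b = 0 := fun b hb => by
    rw [sq] at hb
    induction hb using Submodule.mul_induction_on' with
    | mem_mul_mem m hm n hn => rw [hEmul, (hρ m).2 hm, (hρ n).2 hn]; ring
    | add m _ n _ ihm ihn => rw [hEadd, ihm, ihn, add_zero]
  have hEF : ∀ F, E (aeval x F) = ((coeffDeriv F).map (evalRingHom a)).eval c := fun F => by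
    show TrivSqZeroExt.snd (Ψ (aeval x F)) = _
    rw [← hπv, hΨC, hΦ, show φ F = _ from eval₂_eps a c F]
    simp [TrivSqZeroExt.algebraMap_eq_inl]
  have hEu : E u = 0 := by
    have h1 : E (x - 1) = 0 := by
      have h := hEF (X - 1)
      rw [map_sub, aeval_X, map_one] at h
      rw [h, show (X - 1 : k[X][X]) = monomial 1 1 + monomial 0 (-1) by
        rw [monomial_one_one_eq_X, monomial_zero_left, map_neg, map_one, ← sub_eq_add_neg],
        coeffDeriv_add, coeffDeriv_monomial, coeffDeriv_monomial]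
      simp
    have h2 := hEadd (x - 1 - u) u
    rw [sub_add_cancel, h1, hE0 _ hxu, zero_add] at h2
    exact h2.symm
  have hEP : ∀ b ∈ P, E b = 0 := fun b hb => by
    have hI : Ideal.span {u} ⊔ P ^ 2 = P := by
      have h := Ideal.eq_prime_pow_of_succ_lt_of_le (P := P) hP0 (i := 1) (I := Ideal.span {u} ⊔ P ^ 2)
        (lt_of_le_of_ne le_sup_right fun h => huP2 (h ▸ Submodule.mem_sup_left (Ideal.mem_span_singleton_self u)))
        (by rw [pow_one]; exact sup_le (Ideal.span_le.2 (Set.singleton_subset_iff.2 huP)) (Ideal.pow_le_self two_ne_zero))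
      rwa [pow_one] at h
    rw [← hI] at hb
    obtain ⟨m, hm, n, hn, rfl⟩ := Submodule.mem_sup.1 hb
    obtain ⟨h, rfl⟩ := Ideal.mem_span_singleton'.1 hm
    rw [hEadd, hE0 n hn, hEmul, hEu, (hρ u).2 huP]
    ring
  have h3 := hEP (algebraMap k[X] R (X - C a)) ((hρ _).1 (by
    rw [show ρ (algebraMap k[X] R (X - C a)) = evalRingHom a (X - C a) from RingHom.congr_fun hev _]
    simp))
  rw [← aeval_C (R := k[X]) x, hEF, ← monomial_zero_left, coeffDeriv_monomial] at h3
  simp at h3

variable {K : Type w} [Field K] [Algebra k[X] K] [IsFractionRing k[X] K] [Algebra K L]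
  [IsScalarTower k[X] K L] [FiniteDimensional K L] [Algebra.IsSeparable K L]

include K

/-- Residue fields are trivial. -/
theorem exists_residue [IsAlgClosed k] (P : Ideal B) [P.IsMaximal] :
    ∃ ρ : B →ₐ[k] k, ∀ b, ρ b = 0 ↔ b ∈ P := by
  haveI : Module.Finite k[X] B := IsIntegralClosure.finite k[X] K L B
  haveI : Algebra.FiniteType k B := Algebra.FiniteType.trans (S := k[X]) inferInstance inferInstance
  let _ : Field (B ⧸ P) := Ideal.Quotient.field P
  haveI : Algebra.FiniteType k (B ⧸ P) :=
    Algebra.FiniteType.of_surjective (Ideal.Quotient.mkₐ k P) Ideal.Quotient.mk_surjective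
  haveI : Module.Finite k (B ⧸ P) := finite_of_finite_type_of_isJacobsonRing k (B ⧸ P)
  let e := AlgEquiv.ofBijective (Algebra.ofId k (B ⧸ P)) IsAlgClosed.algebraMap_bijective_of_isIntegral
  exact ⟨e.symm.toAlgHom.comp (Ideal.Quotient.mkₐ k P), fun b => by simp [Ideal.Quotient.eq_zero_iff_mem]⟩

/-- Near every maximal ideal, the integral closure is monogenic. -/
theorem exists_gen [IsAlgClosed k] (P : Ideal B) [P.IsMaximal] :
    ∃ x s u : B, s ∉ P ∧ s ∈ Algebra.adjoin k[X] {x} ∧ (∀ b, s * b ∈ Algebra.adjoin k[X] {x}) ∧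
      x - 1 - u ∈ P ^ 2 ∧ u ∈ P ∧ u ∉ P ^ 2 ∧ P ≠ ⊥ := by
  classical
  haveI : IsDedekindDomain B := integralClosure.isDedekindDomain k[X] K L
  haveI : Module.Finite k[X] B := IsIntegralClosure.finite k[X] K L B
  haveI : FaithfulSMul k[X] L := by
    rw [faithfulSMul_iff_algebraMap_injective, IsScalarTower.algebraMap_eq k[X] K L]
    exact (algebraMap K L).injective.comp (IsFractionRing.injective k[X] K)
  have hp : (P.under k[X]).IsMaximal := Ideal.isMaximal_comap_of_isIntegral_of_isMaximal P
  have hp0 : P.under k[X] ≠ ⊥ := fun h =>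
    Polynomial.not_isField k (Ring.isField_iff_maximal_bot.2 (h ▸ hp))
  have hP0 : P ≠ ⊥ := fun h => hp0 (by
    subst h
    exact Ideal.comap_bot_of_injective _ (FaithfulSMul.algebraMap_injective k[X] B))
  obtain ⟨u, huP, huP2⟩ := SetLike.exists_of_lt (Ideal.pow_succ_lt_pow hP0 1)
  rw [pow_one] at huP
  have hfin : (Ideal.primesOver (P.under k[X]) B).Finite := IsDedekindDomain.primesOver_finite _ _
  let S := hfin.toFinset.erase P
  have hS : ∀ Q ∈ S, Q.IsMaximal ∧ Q ≠ P := fun Q hQ => by
    obtain ⟨hne, hQ'⟩ := Finset.mem_erase.1 hQ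
    rw [Set.Finite.mem_toFinset] at hQ'
    exact ⟨hQ'.1.isMaximal (Ideal.ne_bot_of_mem_primesOver hp0 hQ'), hne⟩
  have hcop : IsCoprime (P ^ 2) (∏ Q ∈ S, Q) := IsCoprime.prod_right fun Q hQ => by
    haveI := (hS Q hQ).1
    exact (Ideal.isCoprime_of_isMaximal (hS Q hQ).2.symm).pow_left
  obtain ⟨i, hi, j, hj, hij⟩ := Ideal.isCoprime_iff_exists.1 hcop
  let x : B := (1 + u) * j
  have hxu : x - 1 - u ∈ P ^ 2 := by
    rw [show x - 1 - u = -((1 + u) * i) by simp only [x]; linear_combination (1 + u) * hij]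
    exact neg_mem (Ideal.mul_mem_left _ _ hi)
  have hx2 : x - 1 ∉ P ^ 2 := fun h => huP2 (by
    have := Ideal.sub_mem _ h hxu
    rwa [sub_sub_cancel] at this)
  have hx1 : x - 1 ∈ P := by
    have := Ideal.add_mem _ ((Ideal.pow_le_self two_ne_zero) hxu) huP
    rwa [sub_add_cancel] at this
  let C := Algebra.adjoin k[X] {x}
  let P' : Ideal C := P.comap C.val
  let J : Ideal B := P'.map (algebraMap C B)
  have hJP : J ≤ P := Ideal.map_le_iff_le_comap.2 le_rfl
  have hmemJ : ∀ c : B, c ∈ C → c ∈ P → c ∈ J := fun c hc hcP =>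
    Ideal.mem_map_of_mem (algebraMap C B) (show (⟨c, hc⟩ : C) ∈ P' from hcP)
  have hx1J : x - 1 ∈ J := hmemJ _ (sub_mem (Algebra.self_mem_adjoin_singleton _ x) (one_mem _)) hx1
  have honly : ∀ M : Ideal B, M.IsMaximal → J ≤ M → M = P := fun M hM hJM => by
    by_contra hne
    have hle : P.under k[X] ≤ M.under k[X] := fun a ha => hJM (hmemJ _ (C.algebraMap_mem a) ha)
    have hMu : M.under k[X] = P.under k[X] :=
      (hp.eq_of_le (Ideal.IsPrime.ne_top inferInstance) hle).symm
    have hMS : M ∈ S := Finset.mem_erase.2 ⟨hne, hfin.mem_toFinset.2 ⟨hM.isPrime, ⟨hMu.symm⟩⟩⟩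
    have hxM : x ∈ M := Ideal.mul_mem_left _ _ ((Finset.inf_le (f := id) hMS) (Ideal.prod_le_inf hj))
    exact hM.ne_top ((Ideal.eq_top_iff_one M).2 (by simpa using Ideal.sub_mem _ hxM (hJM hx1J)))
  have hJ : J = P := by
    obtain ⟨J', hJ'⟩ := Ideal.dvd_iff_le.2 hJP
    by_cases htop : J' = ⊤
    · rw [hJ', htop, Ideal.mul_top]
    obtain ⟨M, hM, hle⟩ := Ideal.exists_le_maximal J' htop
    have hMP := honly M hM (hJ' ▸ Ideal.mul_le_right.trans hle)
    refine absurd ?_ hx2
    rw [hJ'] at hx1J
    rw [sq]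
    exact Ideal.mul_mono (le_refl P) (hle.trans hMP.le) hx1J
  obtain ⟨ρ, hρ⟩ := exists_residue (K := K) P
  obtain ⟨r, hr, hrC⟩ := exists_conductor_element C P' fun b => ⟨algebraMap k C (ρ b), by
    show b - algebraMap k B (ρ b) ∈ J
    rw [hJ, ← hρ]
    simp⟩
  refine ⟨x, (r : B), u, fun h => ?_, r.2, hrC, hxu, huP, huP2, hP0⟩
  exact ((inferInstance : P.IsMaximal)).ne_top ((Ideal.eq_top_iff_one P).2 (by
    simpa using Ideal.sub_mem _ h (show ((r - 1 : C) : B) ∈ P from hr)))

variable (D : Derivation k L L) (hD : D (algebraMap k[X] L X) = 1)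

include hD

/-- The differentials are the inverse different. -/
theorem mem_span_deriv_iff [IsAlgClosed k] (ξ : L) :
    ξ ∈ Submodule.span B (Set.range fun b : B => D (b : L)) ↔
      ∀ b : B, Algebra.trace K L (ξ * b) ∈ (algebraMap k[X] K).range := by
  classical
  haveI : IsDedekindDomain B := integralClosure.isDedekindDomain k[X] K L
  haveI : FaithfulSMul k[X] L := by
    rw [faithfulSMul_iff_algebraMap_injective, IsScalarTower.algebraMap_eq k[X] K L]
    exact (algebraMap K L).injective.comp (IsFractionRing.injective k[X] K)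
  let W := Submodule.span B (Set.range fun b : B => D (b : L))
  let T := Submodule.traceDual k[X] K (1 : Submodule B L)
  have hT : ∀ ξ : L, ξ ∈ T ↔ ∀ b : B, Algebra.trace K L (ξ * b) ∈ (algebraMap k[X] K).range := fun ξ => by
    rw [Submodule.mem_traceDual]
    refine ⟨fun h b => h _ ?_, ?_⟩
    · rw [Submodule.mem_one]; exact ⟨b, rfl⟩
    · rintro h _ hy
      obtain ⟨b, rfl⟩ := Submodule.mem_one.1 hy
      exact h b
  rw [← hT]
  -- local data at a maximal ideal
  have key : ∀ P : Ideal B, P.IsMaximal → ∃ c : B, c ∉ P ∧ (∀ w ∈ W, c • w ∈ T) ∧ ∀ η ∈ T, c • η ∈ W := by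
    intro P hP
    obtain ⟨x, s, u, hs, hsC, hsb, hxu, huP, huP2, hP0⟩ := exists_gen (K := K) P
    obtain ⟨ρ, hρ⟩ := exists_residue (K := K) P
    have hg := coeffDeriv_notMem P (ρ : B →+* k) hρ (fun z => by
      rw [Polynomial.C_eq_algebraMap, ← IsScalarTower.algebraMap_apply k k[X] B]
      exact ρ.commutes z) hs hsC hsb hxu huP huP2 hP0
    let f := minpoly k[X] x
    let g := aeval x (coeffDeriv f)
    let f' := aeval x (derivative f)
    have hint : IsIntegral k[X] (x : L) := x.2
    have hs0 : s ≠ 0 := fun h => hs (h ▸ zero_mem _)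
    have hadj : Algebra.adjoin K {(x : L)} = ⊤ := by
      refine eq_top_iff.2 fun z _ => ?_
      have hC : ∀ y : B, y ∈ Algebra.adjoin k[X] {x} → (y : L) ∈ Algebra.adjoin K {(x : L)} := fun y hy => by
        obtain ⟨F, rfl⟩ := (SetLike.ext_iff.1 (Algebra.adjoin_singleton_eq_range_aeval k[X] x) y).1 hy
        show ((aeval x F : B) : L) ∈ _
        rw [aeval_subalgebra_coe, ← aeval_map_algebraMap K]
        exact aeval_mem_adjoin_singleton _ _
      haveI := IsIntegralClosure.isLocalization k[X] K L B
      obtain ⟨⟨b, d⟩, hbd⟩ := IsLocalization.surj (M := Algebra.algebraMapSubmonoid B (nonZeroDivisors k[X]))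
        z
      obtain ⟨_, d₀, hd₀, rfl⟩ := d
      have hsL : (s : L) ≠ 0 := fun h => hs0 (Subtype.ext h)
      have hd : algebraMap K L (algebraMap k[X] K d₀) ≠ 0 :=
        (_root_.map_ne_zero _).2 ((map_ne_zero_iff _ (IsFractionRing.injective k[X] K)).2 (nonZeroDivisors.ne_zero hd₀))
      have hz : z = ((s * b : B) : L) * (s : L)⁻¹ * (algebraMap K L (algebraMap k[X] K d₀))⁻¹ := by
        have h : z * algebraMap k[X] L d₀ = (b : L) := hbd
        rw [IsScalarTower.algebraMap_apply k[X] K L] at h
        rw [show ((s * b : B) : L) = (s : L) * b from rfl, ← h]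
        field_simp
      rw [hz, ← map_inv₀]
      refine mul_mem (mul_mem (hC _ (hsb b)) ?_) (Subalgebra.algebraMap_mem _ _)
      exact Subalgebra.inv_mem_of_algebraic (x := (⟨(s : L), hC s hsC⟩ : Algebra.adjoin K {(x : L)})) _
        (Algebra.IsAlgebraic.isAlgebraic _)
    have hmin : minpoly K (x : L) = f.map (algebraMap k[X] K) :=
      (minpoly.isIntegrallyClosed_eq_field_fractions' K hint).trans
        (congrArg _ (minpoly.algebraMap_eq (A := k[X]) (show Function.Injective (algebraMap (integralClosure k[X] L) L) from Subtype.val_injective) x))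
    have hf'0 : (f' : L) ≠ 0 := by
      have := (Algebra.IsSeparable.isSeparable K (x : L)).aeval_derivative_ne_zero (minpoly.aeval K (x : L))
      rwa [hmin, derivative_map, aeval_map_algebraMap, ← aeval_subalgebra_coe] at this
    have hdual := traceForm_dualSubmodule_adjoin k[X] K hadj hint
    rw [hmin, derivative_map, aeval_map_algebraMap, ← aeval_subalgebra_coe] at hdual
    have hDx : (g : L) + f' * D x = 0 := by
      have h := deriv_aeval D hD (x : L) f
      rw [← aeval_subalgebra_coe, ← aeval_subalgebra_coe, ← aeval_subalgebra_coe,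
        show aeval x f = 0 from minpoly.aeval _ _, ZeroMemClass.coe_zero, map_zero] at h
      exact h.symm
    have hmemC : ∀ y : L, y ∈ Subalgebra.toSubmodule (Algebra.adjoin k[X] {(x : L)}) ↔
        ∃ z : B, z ∈ Algebra.adjoin k[X] {x} ∧ (z : L) = y := fun y => by
      rw [Subalgebra.mem_toSubmodule, show ({(x : L)} : Set L) = (integralClosure k[X] L).val '' {x} from (Set.image_singleton).symm,
        Algebra.adjoin_image, Subalgebra.mem_map]
      rfl
    have hTd : ∀ z : B, (s : L) * (z * (f' : L)⁻¹) ∈ T := fun z => by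
      refine (hT _).2 fun b => ?_
      have h : ((f' : L))⁻¹ * ((s * (z * b) : B) : L) ∈
          (f' : L)⁻¹ • Subalgebra.toSubmodule (Algebra.adjoin k[X] {(x : L)}) :=
        Submodule.smul_mem_pointwise_smul _ _ _ ((hmemC _).2 ⟨_, hsb _, rfl⟩)
      rw [← hdual] at h
      have h1 := h 1 ((Subalgebra.mem_toSubmodule _).2 (one_mem _))
      rw [Submodule.mem_one] at h1
      obtain ⟨d, hd⟩ := h1
      refine ⟨d, hd.trans ?_⟩
      rw [Algebra.traceForm_apply, mul_one]
      refine congrArg _ ?_
      push_cast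
      ring
    refine ⟨s * s * g, fun h => ?_, fun w hw => ?_, fun η hη => ?_⟩
    · rcases (Ideal.IsPrime.mem_or_mem inferInstance h) with h | h
      · exact hs ((Ideal.IsPrime.mem_or_mem inferInstance h).elim id id)
      · exact hg h
    · induction hw using Submodule.span_induction with
      | mem w hw =>
        obtain ⟨b, rfl⟩ := hw
        have hC : ∀ y : B, y ∈ Algebra.adjoin k[X] {x} →
            ∃ p q : B, D (y : L) = p + q * D x := fun y hy => by
          obtain ⟨F, rfl⟩ := (SetLike.ext_iff.1 (Algebra.adjoin_singleton_eq_range_aeval k[X] x) y).1 hy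
          refine ⟨aeval x (coeffDeriv F), aeval x (derivative F), ?_⟩
          show D ((aeval x F : B) : L) = _
          rw [aeval_subalgebra_coe, aeval_subalgebra_coe, aeval_subalgebra_coe]
          exact deriv_aeval D hD _ F
        obtain ⟨p, q, hpq⟩ := hC _ (hsb b)
        obtain ⟨p', q', hpq'⟩ := hC _ hsC
        have hDb : (s : L) * D b = (p - b * p' : B) + ((q - b * q' : B) : L) * D x := by
          rw [show ((s * b : B) : L) = (s : L) * b from rfl, Derivation.leibniz, smul_eq_mul, smul_eq_mul, hpq'] at hpq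
          push_cast
          linear_combination hpq
        have h := T.add_mem (hTd (f' * (g * (p - b * p')))) (T.neg_mem (hTd (g * (g * (q - b * q')))))
        convert h using 1
        rw [Algebra.smul_def]
        show ((s * s * g : B) : L) * D (b : L) = _
        push_cast at hDb ⊢
        field_simp
        linear_combination ((g : L) * s * f') * hDb + ((g : L) * s * ((q : L) - b * q')) * hDx
      | zero => rw [smul_zero]; exact T.zero_mem
      | add _ _ _ _ h h' => rw [smul_add]; exact T.add_mem h h'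
      | smul r _ _ h => rw [smul_comm]; exact T.smul_mem r h
    · have hf'η : ∃ z : B, (z : L) = (f' : L) * η := by
        have h : η ∈ (Algebra.traceForm K L).dualSubmodule
            (Subalgebra.toSubmodule (Algebra.adjoin k[X] {(x : L)})) := fun y hy => by
          obtain ⟨z, -, rfl⟩ := (hmemC y).1 hy
          obtain ⟨d, hd⟩ := (hT η).1 hη z
          exact Submodule.mem_one.2 ⟨d, hd⟩
        rw [hdual, Submodule.mem_smul_iff_inv_mul_mem (inv_ne_zero hf'0), inv_inv] at h
        obtain ⟨z, -, hz⟩ := (hmemC _).1 h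
        exact ⟨z, hz⟩
      obtain ⟨z, hz⟩ := hf'η
      have h : (-(s * s * z)) • D (x : L) ∈ W := W.smul_mem _ (Submodule.subset_span ⟨x, rfl⟩)
      convert h using 1
      rw [Algebra.smul_def, Algebra.smul_def]
      show ((s * s * g : B) : L) * η = ((-(s * s * z) : B) : L) * D (x : L)
      push_cast
      linear_combination (s : L) ^ 2 * η * hDx + (s : L) ^ 2 * D (x : L) * hz
  have glue : ∀ (M : Submodule B L) (η : L),
      (∀ P : Ideal B, P.IsMaximal → ∃ c : B, c ∉ P ∧ c • η ∈ M) → η ∈ M := fun M η h => by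
    by_contra hcon
    let J : Ideal B := M.comap (LinearMap.toSpanSingleton B L η)
    obtain ⟨P, hP, hle⟩ := Ideal.exists_le_maximal J fun htop => hcon (by
      have : (1 : B) ∈ J := htop ▸ trivial
      simpa [J] using this)
    obtain ⟨c, hc, hcη⟩ := h P hP
    exact hc (hle (by simpa [J] using hcη))
  exact ⟨fun hξ => glue T ξ fun P hP => let ⟨c, h0, h1, _⟩ := key P hP; ⟨c, h0, h1 ξ hξ⟩,
    fun hξ => glue W ξ fun P hP => let ⟨c, h0, _, h2⟩ := key P hP; ⟨c, h0, h2 ξ hξ⟩⟩

omit hD

/-- Double duality. -/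
theorem trace_dual_dual [IsAlgClosed k] (ξ : L)
    (h : ∀ η : L, (∀ b : B, Algebra.trace K L (η * b) ∈ (algebraMap k[X] K).range) →
      Algebra.trace K L (ξ * η) ∈ (algebraMap k[X] K).range) : ξ ∈ B := by
  haveI : IsDedekindDomain B := integralClosure.isDedekindDomain k[X] K L
  haveI : IsFractionRing B L := integralClosure.isFractionRing_of_finite_extension K L
  haveI : FaithfulSMul k[X] L := by
    rw [faithfulSMul_iff_algebraMap_injective, IsScalarTower.algebraMap_eq k[X] K L]
    exact (algebraMap K L).injective.comp (IsFractionRing.injective k[X] K)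
  have h2 : ξ ∈ FractionalIdeal.dual k[X] K (FractionalIdeal.dual k[X] K
      (1 : FractionalIdeal (nonZeroDivisors B) L)) := by
    have h1 : (1 : FractionalIdeal (nonZeroDivisors B) L) ≠ 0 := one_ne_zero
    rw [FractionalIdeal.mem_dual (FractionalIdeal.dual_ne_zero k[X] K h1)]
    intro η hη
    rw [FractionalIdeal.mem_dual h1] at hη
    exact h η fun b => hη _ ((FractionalIdeal.mem_one_iff _).2 ⟨b, rfl⟩)
  rw [FractionalIdeal.dual_dual] at h2
  obtain ⟨b, rfl⟩ := (FractionalIdeal.mem_one_iff _).1 h2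
  exact b.2

end Groth.Agent.OmegaDual24
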